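import Cfsg.Agent.Lib.SuzukiRankOne.Suzuki.Build
import Cfsg.Agent.Lib.Suzuki.Borel
/-!
# The case `|Q| = q²`: identification with the Suzuki group

* `Coords.exists_m` : `φ = th m` when `c = 1`
* `Coords.corr_t` : `t` acts as the inversion of the ovoid
* `suzukiShape` : `SuzukiShape`
-/

set_option autoImplicit false

namespace Cfsg.Agent.SuzukiRankOne.Suzuki

open MulAction Cfsg.Agent.RankOne Cfsg.Agent.RankOne.Setup
open Cfsg.Agent.Suzuki (th fz pt tSz dSz wSz uSub)

universe u v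

namespace Coords

variable {G : Type u} {Ω : Type v} [Group G] [MulAction G Ω] {a : Ω} {t : G} {Q : Subgroup G}
  {F : Type} [Field F] [Fintype F] [CharP F 2] (d : Coords a t Q F)
  (h : Cfsg.IsRankOneSetup G Ω a t Q)
include h

/-- `q = 2^(2m+1)` and `φ = th m`. -/
theorem exists_m (hσ : d.σ = 1) (hc : d.c = 1) {n : ℕ} (hn : Fintype.card F = 2 ^ n) (hn2 : 2 ≤ n) :
    ∃ m, 1 ≤ m ∧ n = 2 * m + 1 ∧ ∀ x, d.φ x = th m x := by
  obtain ⟨j, hj, hjx⟩ := exists_aut_pow hn d.φ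
  have hcard : ∀ x : F, x ^ 2 ^ n = x := fun x => hn ▸ FiniteField.pow_card x
  have h2 : ∀ x : F, x ^ 2 ^ (2 * j) = x ^ 2 := fun x => by
    rw [← d.phi_sq h hσ hc x, hjx, hjx, ← pow_mul, ← pow_add, two_mul]
  have big : ∀ r, 1 ≤ r → r < n → ∃ x : F, x ^ 2 ^ r ≠ x := by
    intro r hr hrn
    by_contra hall
    push Not at hall
    have h1 : 1 < 2 ^ r := Nat.one_lt_two_pow (by omega)
    have e : (Polynomial.X ^ (2 ^ r) + Polynomial.X : Polynomial F) = 0 := by
      refine eq_zero_of_natDegree ?_ fun x => ?_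
      · refine lt_of_le_of_lt (Polynomial.natDegree_add_le_of_degree_le (le_of_eq (Polynomial.natDegree_X_pow _))
          (Polynomial.natDegree_X_le.trans h1.le)) ?_
        rw [hn]
        exact Nat.pow_lt_pow_right (by norm_num) hrn
      · simp [hall x, CharTwo.add_self_eq_zero]
    have := congrArg (fun p : Polynomial F => p.coeff 1) e
    simp [Polynomial.coeff_X_pow, Nat.ne_of_lt h1] at this
  obtain ⟨j', rfl⟩ : ∃ j', j = j' + 1 := by
    rcases j.eq_zero_or_pos with rfl | h0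
    · exfalso
      obtain ⟨x, hx⟩ := big 1 le_rfl (by omega)
      exact hx (by simpa using (h2 x).symm)
    · exact ⟨j - 1, by omega⟩
  have h3 : ∀ x : F, x ^ 2 ^ (2 * j' + 1) = x := fun x => by
    apply frobenius_inj F 2
    simp only [frobenius_def]
    rw [← pow_mul, ← pow_succ]
    exact h2 x
  have hle : n ≤ 2 * j' + 1 := by
    by_contra hlt
    obtain ⟨x, hx⟩ := big (2 * j' + 1) (by omega) (by omega)
    exact hx (h3 x)
  have hn' : n = 2 * j' + 1 := by
    by_contra hne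
    obtain ⟨x, hx⟩ := big (2 * j' + 1 - n) (by omega) (by omega)
    apply hx
    conv_lhs => arg 1; rw [← hcard x]
    rw [← pow_mul, ← pow_add, show n + (2 * j' + 1 - n) = 2 * j' + 1 by omega, h3]
  exact ⟨j', by omega, hn', hjx⟩

/-- `t` on the diagonal. -/
theorem maps_diag (hσ : d.σ = 1) (hc : d.c = 1) {m : ℕ} (hcard : Fintype.card F = 2 ^ (2 * m + 1))
    (hφ : ∀ x, d.φ x = th m x) {p : F} (hp : p ≠ 0) :
    d.Maps p p (p / fz m p p) (p / fz m p p) := by
  by_cases hp1 : p = 1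
  · have := d.maps_r h
    rw [hc] at this
    have e : fz m (1 : F) 1 = 1 := by
      simp only [fz, Suzuki.th_one, one_pow, mul_one, CharTwo.add_self_eq_zero, zero_add]
    rwa [hp1, e, div_one]
  have h1p : 1 + p ≠ 0 := fun e => hp1 (CharTwo.add_eq_zero.1 e).symm
  obtain ⟨x, hxd⟩ : ∃ x, x = (1 + p)⁻¹ := ⟨_, rfl⟩
  have hx : x ≠ 0 := hxd ▸ inv_ne_zero h1p
  have hx1 : x ≠ 1 := fun e => hp (by
    rw [hxd, inv_eq_one] at e
    exact add_eq_left.1 e)
  obtain ⟨ω, hω, hnω, hne, hB, -⟩ := d.equations h hσ hx hx1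
  rw [hc] at hB
  have hw := omega_eq hx1 hne hB
  have hn : d.nm ω = 1 + d.nm x := by
    rw [nm, mul_comm, hnω, nm, mul_comm (d.φ x)]
  have e := d.maps_X h hσ hx hω hn
  have hpx : 1 + x⁻¹ = p := by
    rw [hxd, inv_inv, ← add_assoc, CharTwo.add_self_eq_zero, zero_add]
  rw [hc, CharTwo.add_self_eq_zero, zero_mul, zero_mul, add_zero, hpx] at e
  have hf : fz m p p ≠ 0 := fun e => hp (Suzuki.fz_eq_zero hcard e).1
  have key : 1 + ω⁻¹ = p / fz m p p := by
    have hX : d.φ x = (1 + th m p)⁻¹ := by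
      rw [hxd, map_inv₀, map_add, map_one, hφ]
    have h1P : 1 + th m p ≠ 0 := fun e => hx (d.φ.injective (by rw [hX, e, inv_zero, map_zero]))
    rw [hX, hxd] at hw hne
    have hD : (1 + p) * (1 + th m p) + 1 ≠ 0 := fun e => hne (by field_simp; linear_combination e)
    have hff : (1 + p) ^ 2 * (1 + th m p) + 1 = fz m p p := by
      rw [fz]; grind
    rw [hw, ← hff]
    rw [← hff] at hf
    field_simp
    grind
  rwa [key] at e

/-- The inversion formula. -/
theorem maps_all (hσ : d.σ = 1) (hc : d.c = 1) {m : ℕ} (hcard : Fintype.card F = 2 ^ (2 * m + 1))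
    (hφ : ∀ x, d.φ x = th m x) {A B : F} (hAB : ¬(A = 0 ∧ B = 0)) :
    d.Maps A B (B / fz m A B) (A / fz m A B) := by
  have hnm : ∀ x, d.nm x = th m x * x := fun x => by rw [nm, hφ]
  by_cases hA : A = 0
  · subst hA
    have hB : B ≠ 0 := fun e => hAB ⟨rfl, e⟩
    obtain ⟨k, hk⟩ := d.exists_nm B
    have hk0 : k ≠ 0 := fun e => hB (by rw [← hk, e, nm_zero])
    have e := d.maps_E h hk0
    rw [hσ, mul_one, hc, CharTwo.add_self_eq_zero, zero_mul, hk] at e
    have hk' : k⁻¹ = B / fz m 0 B := by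
      have ht : th m k ≠ 0 := Suzuki.th_ne_zero hk0
      rw [← hk, hnm]
      simp only [fz, Suzuki.th_mul, Suzuki.th_th hcard, Suzuki.th_zero, zero_mul, zero_add]
      field_simp
    rw [zero_div]
    exact hk' ▸ e
  by_cases hB : B = 0
  · subst hB
    have e := d.maps_symm h (d.maps_E h (inv_ne_zero hA))
    rw [hσ, mul_one, hc, CharTwo.add_self_eq_zero, zero_mul, inv_inv] at e
    have hk' : d.nm A⁻¹ = A / fz m A 0 := by
      have ht : th m A ≠ 0 := Suzuki.th_ne_zero hA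
      rw [hnm]
      simp only [fz, Suzuki.th_inv, Suzuki.th_zero, mul_zero, zero_add, add_zero]
      field_simp
    rw [zero_div]
    exact hk' ▸ e
  obtain ⟨j, hjd⟩ : ∃ j, j = d.φ.symm (B / A) := ⟨_, rfl⟩
  have hφj : d.φ j = B / A := by rw [hjd, d.φ.apply_symm_apply]
  have hj : j ≠ 0 := fun e => div_ne_zero hB hA (by rw [← hφj, e, map_zero])
  have hp : A / j ≠ 0 := div_ne_zero hA hj
  have e := d.maps_scale h hj (d.maps_diag h hσ hc hcard hφ hp)
  have hA' : j * (A / j) = A := mul_div_cancel₀ _ hj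
  have hB' : d.nm j * (A / j) = B := by
    rw [nm, mul_assoc, hA', hφj, div_mul_cancel₀ _ hA]
  rw [hA', hB'] at e
  have hf : fz m A B = th m j * j ^ 2 * fz m (A / j) (A / j) := by
    rw [← Suzuki.fz_scale hcard, hA', ← hnm, hB']
  have hf0 : fz m (A / j) (A / j) ≠ 0 := fun e => hp (Suzuki.fz_eq_zero hcard e).1
  have ht : th m j ≠ 0 := Suzuki.th_ne_zero hj
  have hB'' : B = th m j * A := by rw [← hφ, hφj, div_mul_cancel₀ _ hA]
  have e1 : j⁻¹ * (A / j / fz m (A / j) (A / j)) = B / fz m A B := by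
    rw [hf, hB'']; field_simp
  have e2 : d.nm j⁻¹ * (A / j / fz m (A / j) (A / j)) = A / fz m A B := by
    rw [hf, d.nm_inv, hnm]; field_simp
  rwa [e1, e2] at e

end Coords

/-- `g` acts on `Ω` as `s` does on the ovoid, through `ψ`. -/
def corrSub {G : Type u} {Ω : Type v} [Group G] [MulAction G Ω] {F : Type} [Field F] {m : ℕ}
    (ψ : Ω → Projectivization F (Fin 4 → F)) : Subgroup (G × Cfsg.Sz F m) where
  carrier := {p | ∀ x, ψ (p.1 • x) = p.2 • ψ x}
  one_mem' := fun x => by simp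
  mul_mem' := fun {p q} hp hq x => by
    rw [Prod.fst_mul, Prod.snd_mul, mul_smul, mul_smul, hp, hq]
  inv_mem' := fun {p} hp x => by
    rw [Prod.fst_inv, Prod.snd_inv, eq_inv_smul_iff, ← hp, smul_inv_smul]

theorem suzukiShape : SuzukiShape.{u, v} := by
  intro G Ω _ _ _ _ a t Q h h2 hp hna hQ
  classical
  obtain ⟨n, hn, -, d, hφ1, hφodd⟩ := exists_coords_sq h h2 hp hna hQ
  let F := GaloisField 2 n
  let _ : Fintype F := Fintype.ofFinite _
  have hcard : Fintype.card F = 2 ^ n := by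
    rw [← Nat.card_eq_fintype_card, GaloisField.card 2 n (by omega)]
  have hσ := d.sigma_eq_one h
  obtain ⟨d, hσ, hc⟩ : ∃ d : Coords a t Q F, d.σ = 1 ∧ d.c = 1 := by
    rcases d.coeff_cases h hσ hcard hn hφ1 hφodd with hc | hc
    · exact ⟨d.swap hσ, rfl, by show d.c + 1 = 1; rw [hc, zero_add]⟩
    · exact ⟨d, hσ, hc⟩
  obtain ⟨m, hm, rfl, hφ⟩ := d.exists_m h hσ hc hcard hn
  -- the bijection with the ovoid
  let f : Option (F × F) → Ω := fun o => o.elim a fun p => d.P p.1 p.2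
  have hfne : ∀ A B, d.P A B ≠ a := fun A B => smul_ne_self h (d.pt_mem A B) (t_smul_ne h)
  have hfs : ∀ x, x ≠ a → ∃ A B, d.P A B = x := fun x hx => by
    obtain ⟨q, hq, rfl⟩ := exists_smul_eq h hx
    obtain ⟨A, B, rfl⟩ := d.pt_surj q hq
    exact ⟨A, B, rfl⟩
  have hfb : Function.Bijective f := by
    refine ⟨?_, fun x => ?_⟩
    · rintro (_ | ⟨A, B⟩) (_ | ⟨A', B'⟩) e
      · rfl
      · exact absurd e.symm (hfne A' B')
      · exact absurd e (hfne A B)
      · obtain ⟨rfl, rfl⟩ := d.P_inj h e; rfl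
    · by_cases hx : x = a
      · exact ⟨none, hx.symm⟩
      · obtain ⟨A, B, e⟩ := hfs x hx
        exact ⟨some (A, B), e⟩
  let E := (Equiv.ofBijective f hfb).symm.trans (Suzuki.ovoidEquiv F m)
  let ψ : Ω → Projectivization F (Fin 4 → F) := fun x => (E x : Projectivization F (Fin 4 → F))
  have hψi : Function.Injective ψ := fun x y e => E.injective (Subtype.ext e)
  have hψf : ∀ o, ψ (f o) = (Suzuki.ovoidEquiv F m o : Projectivization F (Fin 4 → F)) := fun o =>
    congrArg (fun o' => (Suzuki.ovoidEquiv F m o' : Projectivization F (Fin 4 → F)))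
      (Equiv.ofBijective_symm_apply_apply f hfb o)
  have hψa : ψ a = suzukiPointInfinity F := hψf none
  have hψP : ∀ A B, ψ (d.P A B) = pt m A B := fun A B => hψf (some (A, B))
  have h0 : d.P 0 0 = t • a := by rw [Coords.P, d.pt_zero, one_smul]
  have ext_pts : ∀ {g : G} {s : Cfsg.Sz F m}, ψ (g • a) = s • ψ a →
      (∀ A B, ψ (g • d.P A B) = s • ψ (d.P A B)) → (g, s) ∈ corrSub ψ := fun {g s} h1 h2 x => by
    by_cases hx : x = a
    · rw [hx]; exact h1
    · obtain ⟨A, B, rfl⟩ := hfs x hx; exact h2 A B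
  -- the generators
  have hQc : ∀ A B, (d.pt A B, tSz hcard A B) ∈ corrSub ψ := fun A B => ext_pts
    (by rw [show d.pt A B • a = a from h.le (d.pt_mem A B), hψa, Suzuki.tSz_smul_infinity])
    (fun A' B' => by
      rw [d.pt_smul_P, hψP, hψP, Suzuki.tSz_smul_pt, hφ, add_comm A A']
      congr 1
      ring)
  have htc : (t, wSz hcard) ∈ corrSub ψ := by
    refine ext_pts ?_ fun A B => ?_
    · rw [← h0, hψP, hψa, Suzuki.wSz_smul_infinity, Suzuki.pt_zero_zero]
    by_cases hAB : A = 0 ∧ B = 0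
    · rw [hAB.1, hAB.2, hψP, h0, Coords.tt_smul h, hψa, Suzuki.pt_zero_zero, Suzuki.wSz_smul_zero]
    · rw [d.maps_all h hσ hc hcard hφ hAB, hψP, hψP]
      exact (Suzuki.wSL_smul_pt hcard A B fun e => hAB (Suzuki.fz_eq_zero hcard e)).symm
  have hDc : ∀ k, (d.dd k, dSz hcard k) ∈ corrSub ψ := fun k => ext_pts
    (by rw [show d.dd k • a = a from (d.dd_mem k).1, hψa, Suzuki.dSz_smul_infinity])
    (fun A B => by rw [d.dd_smul_P, hψP, hψP, Suzuki.dSz_smul_pt, Coords.nm, hφ])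
  let S : Set G := insert t (Set.range fun p : F × F => d.pt p.1 p.2)
  let L := Subgroup.closure S
  have hptL : ∀ A B, d.pt A B ∈ L := fun A B =>
    Subgroup.subset_closure (Set.mem_insert_of_mem _ ⟨(A, B), rfl⟩)
  have htL : t ∈ L := Subgroup.subset_closure (Set.mem_insert _ _)
  let T : Subgroup (G × Cfsg.Sz F m) := corrSub ψ ⊓ L.prod ⊤
  have hT : ∀ {g s}, (g, s) ∈ corrSub ψ → g ∈ L → (g, s) ∈ T := fun h1 h2 =>
    ⟨h1, h2, Subgroup.mem_top _⟩
  have hfst : ∀ g ∈ L, ∃ s, (g, s) ∈ T := fun g hg => by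
    have hle : L ≤ T.map (MonoidHom.fst G _) := (Subgroup.closure_le _).2 (by
      rintro _ (rfl | ⟨⟨A, B⟩, rfl⟩)
      · exact ⟨_, hT htc htL, rfl⟩
      · exact ⟨_, hT (hQc A B) (hptL A B), rfl⟩)
    obtain ⟨⟨g', s⟩, h1, rfl⟩ := hle hg
    exact ⟨s, h1⟩
  have hsnd : ∀ s, ∃ g ∈ L, (g, s) ∈ T := fun s => by
    have htop : T.map (MonoidHom.snd G _) = ⊤ := by
      refine Suzuki.eq_top_of_uSub_le hm hcard ?_ (g := wSz hcard) ⟨_, hT htc htL, rfl⟩ ?_
      · intro u hu
        obtain ⟨A, B, rfl⟩ := (Suzuki.mem_uSub hcard).1 hu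
        exact ⟨_, hT (hQc A B) (hptL A B), rfl⟩
      · rw [Suzuki.wSz_smul_infinity]
        exact Suzuki.pointZero_ne_infinity
    obtain ⟨⟨g, s'⟩, h1, rfl⟩ : s ∈ T.map (MonoidHom.snd G _) := htop ▸ Subgroup.mem_top s
    exact ⟨g, h1.2.1, h1⟩
  have hu1 : ∀ {g g' : G} {s : Cfsg.Sz F m}, (g, s) ∈ corrSub ψ → (g', s) ∈ corrSub ψ → g = g' := fun h1 h2 =>
    FaithfulSMul.eq_of_smul_eq_smul (α := Ω) fun x => hψi ((h1 x).trans (h2 x).symm)
  have hu2 : ∀ {g : G} {s s' : Cfsg.Sz F m}, (g, s) ∈ corrSub ψ → (g, s') ∈ corrSub ψ → s = s' := fun {g s s'} h1 h2 => by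
    have hov : ∀ y ∈ suzukiOvoid F m, (s⁻¹ * s') • y = y := fun y hy => by
      obtain ⟨x, hx⟩ := E.surjective ⟨y, hy⟩
      have hx' : ψ x = y := congrArg Subtype.val hx
      rw [mul_smul, inv_smul_eq_iff, ← hx']
      exact (h2 x).symm.trans (h1 x)
    rw [← inv_mul_eq_one]
    refine Suzuki.eq_one_of_fix_three hm hcard Suzuki.infinity_mem Suzuki.pointZero_mem
      (Suzuki.pt_mem 1 0) (Ne.symm Suzuki.pointZero_ne_infinity) (Ne.symm (Suzuki.pt_ne_infinity 1 0)) ?_
      (hov _ Suzuki.infinity_mem) (hov _ Suzuki.pointZero_mem) (hov _ (Suzuki.pt_mem 1 0))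
    rw [← Suzuki.pt_zero_zero (m := m)]
    exact fun e => zero_ne_one (Suzuki.pt_inj e).1
  have hddL : ∀ k, d.dd k ∈ L := fun k => by
    obtain ⟨g, hg, hgT⟩ := hsnd (dSz hcard k)
    exact hu1 hgT.1 (hDc k) ▸ hg
  have hQL : Q ≤ L := fun x hx => by
    obtain ⟨A, B, rfl⟩ := d.pt_surj x hx; exact hptL A B
  let DD : Subgroup G := stabilizer G a ⊓ stabilizer G (t • a)
  have htt : ∀ x : G, t * (t * x) = x := fun x => by rw [← mul_assoc, h.mul_self, one_mul]
  have hgen : ∀ g : G, ∃ l ∈ L, ∃ e ∈ DD, g = l * e := by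
    intro g
    by_cases hg : g ∈ stabilizer G a
    · obtain ⟨x, hx, e, he, rfl⟩ := exists_decomp h hg
      exact ⟨x, hQL hx, e, he, rfl⟩
    · obtain ⟨⟨g1, q⟩, ⟨hg1, hq, e⟩, -⟩ := existsUnique_canonical h hg
      obtain ⟨x, hx, e', he', rfl⟩ := exists_decomp h hg1
      have he'' := t_conj_mem h he'
      refine ⟨x * t * (t * e' * t * q * (t * e' * t)⁻¹),
        mul_mem (mul_mem (hQL hx) htL) (hQL (h.conj_mem _ he''.1 q hq)), _, he'', ?_⟩
      rw [e]
      simp [mul_assoc, htt, t_inv h, h.mul_self]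
  have hN : L.Normal := ⟨fun l hl g => by
    obtain ⟨l', hl', e, he, rfl⟩ := hgen g
    have hker : ∀ y ∈ L, e * y * e⁻¹ ∈ L := by
      intro y hy
      induction hy using Subgroup.closure_induction with
      | mem z hz =>
        rcases hz with rfl | ⟨⟨A, B⟩, rfl⟩
        · obtain ⟨k, hk⟩ := d.dd_surj _ (Frame.dd_conj_t h he)
          have e1 : e * z * e⁻¹ = d.dd k * z := by rw [hk, mul_assoc _ z z, h.mul_self, mul_one]
          rw [e1]
          exact mul_mem (hddL k) htL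
        · exact hQL (h.conj_mem e he.1 _ (d.pt_mem A B))
      | one => simp
      | mul y z _ _ hy hz =>
        have := mul_mem hy hz
        rwa [show e * y * e⁻¹ * (e * z * e⁻¹) = e * (y * z) * e⁻¹ by group] at this
      | inv y _ hy =>
        have := inv_mem hy
        rwa [show (e * y * e⁻¹)⁻¹ = e * y⁻¹ * e⁻¹ by group] at this
    have := mul_mem (mul_mem hl' (hker l hl)) (inv_mem hl')
    simpa [mul_assoc] using this⟩
  refine ⟨L, hN, ?_, F, inferInstance, inferInstance, m, hm, hcard, ?_⟩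
  · have := hN
    refine h.odd_card.of_dvd_nat ?_
    have hsur : Function.Surjective ((QuotientGroup.mk' L).comp
        (stabilizer G a ⊓ stabilizer G (t • a)).subtype) := by
      intro x
      obtain ⟨g, rfl⟩ := QuotientGroup.mk'_surjective L x
      obtain ⟨l, hl, e, he, rfl⟩ := hgen g
      refine ⟨⟨e, he⟩, ?_⟩
      rw [map_mul, show (QuotientGroup.mk' L) l = 1 from (QuotientGroup.eq_one_iff l).2 hl, one_mul]
      rfl
    rw [Subgroup.index_eq_card]
    exact Subgroup.card_dvd_of_surjective _ hsur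
  · let p1 : T →* L := ((MonoidHom.fst G _).comp T.subtype).codRestrict L fun x => x.2.2.1
    let p2 : T →* Cfsg.Sz F m := (MonoidHom.snd G _).comp T.subtype
    have b1 : Function.Bijective p1 := by
      refine ⟨fun x y e => Subtype.ext (Prod.ext (congrArg Subtype.val e) ?_), fun g => ?_⟩
      · have e' : x.1.1 = y.1.1 := congrArg Subtype.val e
        exact hu2 (g := x.1.1) x.2.1 (e' ▸ y.2.1)
      · obtain ⟨s, hs⟩ := hfst g g.2
        exact ⟨⟨_, hs⟩, rfl⟩
    have b2 : Function.Bijective p2 := by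
      refine ⟨fun x y e => Subtype.ext (Prod.ext ?_ e), fun s => ?_⟩
      · have e' : x.1.2 = y.1.2 := e
        exact hu1 (s := x.1.2) x.2.1 (e' ▸ y.2.1)
      · obtain ⟨g, -, hg⟩ := hsnd s
        exact ⟨⟨_, hg⟩, rfl⟩
    exact ⟨((MulEquiv.ofBijective p1 b1).symm.trans (MulEquiv.ofBijective p2 b2)).trans
      (Suzuki.lieEquiv hm hcard)⟩

end Cfsg.Agent.SuzukiRankOne.Suzuki
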