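import Cfsg.Agent.EqLemmas
/-!
# The field equations of the Suzuki case

Here `a` is a field element, `P = φ a`, `ω` satisfies `ω φ(ω) = 1 + a φ(a)`, and the structure
equations at two test points give `hB` and `h1`; `c` is the coordinate of the base element.

* `coeff_zero_or_one` : then `c ∈ {0, 1}`, provided `(a, P)` avoids one curve
* `curve_c_free` : the curve for `a` and `1/a` together, free of `c`
* `omega_eq`, `second_image` : for `c = 1`, `ω` is rational and `φ² a = a²`
* `exists_aut_pow`, `exists_off_curve` : some `a` avoids the curve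
-/

set_option autoImplicit false

namespace Cfsg.Agent.SuzukiRankOne.Suzuki

variable {F : Type*} [Field F] [CharP F 2]

/-- `Λ = 1 + P + c (a + P)`. -/
def lam (c a P : F) : F := 1 + P + c * (a + P)

/-- The eliminant of the two equations factors. -/
theorem eliminant_factor (c a P : F) :
    c * (c + 1) * (a * P) * ((a + P) ^ 2 + a * P * lam c a P ^ 2) =
      (1 + a * P) * (1 + a + a * P * a * lam c a P) * (1 + P + a * P * lam c a P * P) +
        (lam c a P * (1 + (a * P) ^ 2 + (c + 1) * (a * P)) + (c + 1) * (a + P)) ^ 2 +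
        (lam c a P * (1 + (a * P) ^ 2 + (c + 1) * (a * P)) + (c + 1) * (a + P)) *
          (a + P + a * P * lam c a P) := by
  simp only [lam]; grind

/-- Two equations force `c ∈ {0, 1}` unless `(a + P)² = a P Λ²`. -/
theorem coeff_zero_or_one {c a P ω ω' : F} (ha : a ≠ 0) (hP : P ≠ 0) (hω : ω ≠ 0)
    (hn : ω * ω' = 1 + a * P) (hne : 1 + a * P ≠ 0)
    (hB : ω * (lam c a P * (1 + (a * P) ^ 2 + (c + 1) * (a * P)) + (c + 1) * (a + P)) =
      (1 + a * P) * (1 + a + a * P * a * lam c a P))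
    (h1 : ω * (1 + P + a * P * lam c a P * P) + ω' * (1 + a + a * P * a * lam c a P) =
      a + P + a * P * lam c a P) :
    c = 0 ∨ c = 1 ∨ (a + P) ^ 2 = a * P * lam c a P ^ 2 := by
  set V := lam c a P * (1 + (a * P) ^ 2 + (c + 1) * (a * P)) + (c + 1) * (a + P) with hV
  set Vd := 1 + a + a * P * a * lam c a P with hVd
  set Ud := 1 + P + a * P * lam c a P * P with hUd
  have hD : (1 + a * P) * Vd * Ud + V ^ 2 + V * (a + P + a * P * lam c a P) = 0 := by
    have key : (1 + a * P) * Vd *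
        ((1 + a * P) * Vd * Ud + V ^ 2 + V * (a + P + a * P * lam c a P)) = 0 := by
      linear_combination (ω * V ^ 2) * h1 - ((ω * V + (1 + a * P) * Vd) * Ud) * hB -
        (Vd * V ^ 2) * hn + (V * (a + P + a * P * lam c a P)) * hB +
        ((1 + a * P) * Vd * V * (a + P + a * P * lam c a P)) * (CharTwo.two_eq_zero : (2 : F) = 0)
    rcases mul_eq_zero.1 key with h | h
    · rcases mul_eq_zero.1 h with h' | h'
      · exact absurd h' hne
      · have hV0 : V = 0 := by
          rw [h', mul_zero] at hB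
          exact (mul_eq_zero.1 hB).resolve_left hω
        rw [h', hV0]; ring
    · exact h
  have e : c * (c + 1) * (a * P) * ((a + P) ^ 2 + a * P * lam c a P ^ 2) = 0 := by
    rw [eliminant_factor, ← hV, ← hVd, ← hUd]; exact hD
  rcases mul_eq_zero.1 e with h | h
  · rcases mul_eq_zero.1 h with h' | h'
    · rcases mul_eq_zero.1 h' with h'' | h''
      · exact Or.inl h''
      · exact Or.inr (Or.inl (CharTwo.add_eq_zero.1 h''))
    · exact absurd h' (mul_ne_zero ha hP)
  · exact Or.inr (Or.inr (CharTwo.add_eq_zero.1 h))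

/-- The curve at `a` and at `1/a` together does not involve `c`. -/
theorem curve_c_free {c a P r : F} (ha : a ≠ 0) (hP : P ≠ 0) (hr : r ^ 2 = a * P)
    (h : (a + P) ^ 2 = a * P * lam c a P ^ 2)
    (h' : (a⁻¹ + P⁻¹) ^ 2 = a⁻¹ * P⁻¹ * lam c a⁻¹ P⁻¹ ^ 2) :
    (a ^ 2 + P ^ 2) * (1 + a * P + (a * P) ^ 2) + a * P * (1 + (a * P) ^ 2) = 0 := by
  have hsq : Function.Injective (fun x : F => x ^ 2) := fun x y hxy => by
    have : (x + y) ^ 2 = 0 := by
      rw [CharTwo.add_sq]; exact CharTwo.add_eq_zero.2 hxy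
    exact CharTwo.add_eq_zero.1 (pow_eq_zero_iff (two_ne_zero) |>.1 this)
  have e1 : a + P = r * lam c a P := hsq (by simp only [mul_pow, hr, h])
  have h2 : (r * (a + P)) ^ 2 = (a * P + a + c * (a + P)) ^ 2 := by
    rw [mul_pow, hr]
    simp only [lam] at h'
    field_simp at h'
    grind
  have e2 : r * (a + P) = a * P + a + c * (a + P) := hsq h2
  simp only [lam] at e1
  have two : (2 : F) = 0 := CharTwo.two_eq_zero
  have s1 : c * (a + P) * (1 + a * P) = a * (1 + P) ^ 2 := by
    clear h h' h2 hsq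
    linear_combination (norm := grind) r * e1 + e2 + (1 + P + c * (a + P)) * hr
  have s2 : r * (a + P) * (1 + a * P) = a * P * (1 + a) * (1 + P) := by
    clear h h' h2 hsq
    linear_combination (norm := grind) (1 + a * P) * e2 + s1
  clear h h' h2 hsq e1 e2 s1
  linear_combination (norm := grind)
    (r * (a + P) * (1 + a * P) + a * P * (1 + a) * (1 + P)) * s2 * (a * P)⁻¹ +
      (a * P)⁻¹ * (a + P) ^ 2 * (1 + a * P) ^ 2 * hr

/-- For `c = 1` the element `ω` is rational in `a` and `φ a`. -/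
theorem omega_eq {a P ω : F} (ha1 : a ≠ 1) (hne : 1 + a * P ≠ 0)
    (hB : ω * (lam 1 a P * (1 + (a * P) ^ 2 + (1 + 1) * (a * P)) + (1 + 1) * (a + P)) =
      (1 + a * P) * (1 + a + a * P * a * lam 1 a P)) :
    ω = (1 + a * P * a) / (1 + a * P) := by
  rw [eq_div_iff hne]
  have h1 : (1 + a) ≠ 0 := fun h => ha1 (CharTwo.add_eq_zero.1 h).symm
  apply mul_left_cancel₀ (mul_ne_zero hne h1)
  simp only [lam] at hB
  grind

/-- For `c = 1`: `φ (φ a) = a²`. -/
theorem second_image {a P R : F} (hP : P ≠ 0) (hP1 : P ≠ 1) (hne : 1 + a * P ≠ 0)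
    (hne' : 1 + P * R ≠ 0)
    (h : (1 + a * P * a) / (1 + a * P) * ((1 + P * R * P) / (1 + P * R)) = 1 + a * P) :
    R = a ^ 2 := by
  have h1 : (1 + P) ≠ 0 := fun e => hP1 (CharTwo.add_eq_zero.1 e).symm
  apply mul_left_cancel₀ (mul_ne_zero hP h1)
  field_simp at h
  grind

/-- Clearing the first test equation. -/
theorem first_equation {c a P ω W : F}
    (h : lam c a P * ((1 + a * P) + a * P + W * a + P * ω) * (a * P) =
      (1 + a + P + a * P) + (1 + a * P) + (1 + P) * ω + W * (1 + a)) :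
    ω * (1 + P + a * P * lam c a P * P) + W * (1 + a + a * P * a * lam c a P) =
      a + P + a * P * lam c a P := by
  simp only [lam] at h ⊢
  grind

/-- Clearing the second test equation. -/
theorem second_equation {c a P ω A : F} (ha : a ≠ 0) (hP : P ≠ 0) (hω : ω ≠ 0) (hne : 1 + a * P ≠ 0)
    (qA : (1 + a) / a * (1 + ω⁻¹) = 1 + A)
    (qB : (1 + a + P + a * P) / (a * P) * (c + (c + 1) * (1 + a * P)⁻¹ + ω⁻¹) =
      c + lam c a P * (c + (c + 1) * (a * P / (1 + a * P)) + a / ω) + A) :
    ω * (lam c a P * (1 + (a * P) ^ 2 + (c + 1) * (a * P)) + (c + 1) * (a + P)) =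
      (1 + a * P) * (1 + a + a * P * a * lam c a P) := by
  have hA : A = (1 + a) / a * (1 + ω⁻¹) + 1 := by
    rw [qA, add_comm 1 A, add_assoc, CharTwo.add_self_eq_zero, add_zero]
  rw [hA] at qB
  clear hA qA
  simp only [lam] at qB ⊢
  field_simp at qB
  grind

section Finite

open Polynomial

variable [Fintype F]

/-- Every automorphism is a power of the Frobenius. -/
theorem exists_aut_pow {n : ℕ} (hn : Fintype.card F = 2 ^ n) (σ : F ≃+* F) :
    ∃ j, j < n ∧ ∀ x, σ x = x ^ 2 ^ j := by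
  have : Fact (Nat.Prime 2) := ⟨Nat.prime_two⟩
  let _ := ZMod.algebra F 2
  let f : F →ₐ[ZMod 2] F :=
    { toRingHom := (σ : F →+* F)
      commutes' := fun r => RingHom.congr_fun
        (Subsingleton.elim ((σ : F →+* F).comp (algebraMap (ZMod 2) F)) (algebraMap (ZMod 2) F)) r }
  obtain ⟨j, hj⟩ := (FiniteField.bijective_frobeniusAlgHom_pow (ZMod 2) F).2 f
  have hfr : Module.finrank (ZMod 2) F = n := by
    have h := Module.card_eq_pow_finrank (K := ZMod 2) (V := F)
    rw [hn, ZMod.card] at h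
    exact (Nat.pow_right_injective le_rfl h).symm
  refine ⟨j, hfr ▸ j.2, fun x => ?_⟩
  have h := DFunLike.congr_fun hj x
  show f x = _
  rw [← h, AlgHom.coe_pow, FiniteField.coe_frobeniusAlgHom, pow_iterate, ZMod.card]

omit [CharP F 2] in
theorem eq_zero_of_natDegree {g : F[X]} (hdeg : g.natDegree < Fintype.card F)
    (h : ∀ x, g.eval x = 0) : g = 0 :=
  eq_zero_of_natDegree_lt_card_of_eval_eq_zero g Function.injective_id h hdeg

/-- Some element is off the `c`-free curve. -/
theorem exists_off_curve {n : ℕ} (hn : Fintype.card F = 2 ^ n) (hn2 : 2 ≤ n) (σ : F ≃+* F)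
    (hσ1 : σ ≠ RingEquiv.refl F) (hodd : Odd (orderOf σ)) :
    ∃ a : F, (a ^ 2 + σ a ^ 2) * (1 + a * σ a + (a * σ a) ^ 2) + a * σ a * (1 + (a * σ a) ^ 2) ≠ 0 := by
  -- it is enough to look at `σ` or at `σ⁻¹`
  have key : ∀ (τ : F ≃+* F) (j : ℕ), (∀ x, τ x = x ^ 2 ^ j) → 1 ≤ j → 2 * j + 1 ≤ n →
      ∃ a : F, (a ^ 2 + τ a ^ 2) * (1 + a * τ a + (a * τ a) ^ 2) + a * τ a * (1 + (a * τ a) ^ 2) ≠ 0 := by
    intro τ j hτ hj hjn
    by_contra hc
    push Not at hc
    simp only [hτ] at hc
    set J := 2 ^ j with hJ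
    have hJ2 : 2 ≤ J := by
      calc 2 = 2 ^ 1 := rfl
        _ ≤ J := Nat.pow_le_pow_right (by norm_num) hj
    by_cases h3 : n ≤ 3
    · obtain ⟨rfl, rfl⟩ : j = 1 ∧ n = 3 := ⟨by omega, by omega⟩
      have h7 : ∀ a : F, a ≠ 0 → a ^ 7 = 1 := fun a ha => by
        have := FiniteField.pow_card_sub_one_eq_one a ha
        rwa [hn] at this
      classical
      have : Nontrivial Fˣ := Fintype.one_lt_card_iff_nontrivial.1 (by rw [Fintype.card_units, hn]; norm_num)
      obtain ⟨u, hu⟩ := exists_ne (1 : Fˣ)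
      have h := hc (u : F)
      have h' := h7 u u.ne_zero
      apply hu
      apply Units.ext
      have e : ((u : F) + 1) ^ 5 = 0 := by
        simp only [hJ] at h
        grind
      exact CharTwo.add_eq_zero.1 (pow_eq_zero_iff (by norm_num : (5 : ℕ) ≠ 0) |>.1 e)
    let g : F[X] := X ^ 2 + X ^ (2 * J) + X ^ (3 + J) + X ^ (1 + 3 * J) + X ^ (4 + 2 * J) +
      X ^ (2 + 4 * J) + X ^ (1 + J) + X ^ (3 + 3 * J)
    have hev : ∀ x, g.eval x = 0 := fun x => by
      rw [← hc x]
      simp only [g, eval_add, eval_pow, eval_X]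
      ring
    have hX : ∀ k, k ≤ 2 + 4 * J → (X ^ k : F[X]).natDegree ≤ 2 + 4 * J := fun k hk => by
      rwa [natDegree_X_pow]
    have hdeg : g.natDegree ≤ 2 + 4 * J :=
      natDegree_add_le_of_degree_le (natDegree_add_le_of_degree_le (natDegree_add_le_of_degree_le
        (natDegree_add_le_of_degree_le (natDegree_add_le_of_degree_le (natDegree_add_le_of_degree_le
          (natDegree_add_le_of_degree_le (hX _ (by omega)) (hX _ (by omega))) (hX _ (by omega)))
            (hX _ (by omega))) (hX _ (by omega))) (hX _ (by omega))) (hX _ (by omega))) (hX _ (by omega))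
    have hlt : 2 + 4 * J < Fintype.card F := by
      rw [hn]
      have h1 : 4 * J = 2 ^ (j + 2) := by rw [hJ, pow_add]; ring
      have h2 : 2 ^ (j + 2) * 2 ≤ 2 ^ n := by
        rw [← pow_succ]; exact Nat.pow_le_pow_right (by norm_num) (by omega)
      have h3' : 2 < 2 ^ (j + 2) := by omega
      omega
    have hg := eq_zero_of_natDegree (hdeg.trans_lt hlt) hev
    have h2c : g.coeff 2 = 1 := by
      have hne : ∀ k, 2 < k → (X ^ k : F[X]).coeff 2 = 0 := fun k hk => by
        rw [coeff_X_pow, if_neg (by omega)]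
      simp only [g, coeff_add]
      rw [coeff_X_pow_self, hne _ (by omega), hne _ (by omega), hne _ (by omega), hne _ (by omega),
        hne _ (by omega), hne _ (by omega), hne _ (by omega)]
      simp
    rw [hg, coeff_zero] at h2c
    exact zero_ne_one h2c
  obtain ⟨j, hjn, hj⟩ := exists_aut_pow hn σ
  have hj0 : 1 ≤ j := by
    by_contra h0
    exact hσ1 (RingEquiv.ext fun x => by rw [hj, show j = 0 by omega]; simp)
  have hcard : ∀ x : F, x ^ 2 ^ n = x := fun x => hn ▸ FiniteField.pow_card x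
  rcases lt_trichotomy (2 * j) n with h | h | h
  · exact key σ j hj hj0 h
  · exfalso
    have h2 : σ ^ 2 = 1 := RingEquiv.ext fun x => by
      show σ (σ x) = x
      rw [hj, hj, ← pow_mul, ← pow_add, show j + j = n by omega, hcard]
    have h1 : orderOf σ = 1 :=
      Nat.dvd_one.1 ((Nat.coprime_two_right.2 hodd).dvd_of_dvd_mul_left
        (by simpa using orderOf_dvd_of_pow_eq_one h2))
    exact hσ1 (orderOf_eq_one_iff.1 h1)
  · have hj' : ∀ x, σ.symm x = x ^ 2 ^ (n - j) := fun x => by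
      apply σ.injective
      rw [σ.apply_symm_apply, hj, ← pow_mul, ← pow_add, show n - j + j = n by omega, hcard]
    obtain ⟨a, ha⟩ := key σ.symm (n - j) hj' (by omega) (by omega)
    refine ⟨σ.symm a, ?_⟩
    rw [σ.apply_symm_apply]
    intro h'
    apply ha
    rw [← h']; ring

end Finite

end Cfsg.Agent.SuzukiRankOne.Suzuki
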