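import Cfsg.Agent.Lib.RankOne.SetupInvolutions
import Cfsg.Agent.Lib.SuzukiRankOne.Suzuki.Algebra
/-!
# The action of `t` in coordinates, Suzuki case

`Coords` : coordinates of type A on `Q` in which `K` acts monomially and `t s t = r⁻¹ t r` with
`s = (0, σ)`, `r = (1, c)`.

* `maps_E`, `maps_X` : the image under `t` of the points met by products of two conjugates of `tst`
* `sigma_eq_one`, `coeff_cases`, `Coords.swap` : `σ = 1`, `c ∈ {0, 1}`, exchanging `φ` and `φ⁻¹`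
* `phi_sq` : for `c = 1`, `φ² x = x²`
-/

set_option autoImplicit false

namespace Cfsg.Agent.SuzukiRankOne.Suzuki

open MulAction Cfsg.Agent.RankOne

/-- Coordinates of type A on `Q`, with the torus and the base relation. -/
structure Coords {G Ω : Type*} [Group G] [MulAction G Ω] (a : Ω) (t : G) (Q : Subgroup G)
    (F : Type) [Field F] where
  φ : F ≃+* F
  c : F
  σ : F
  pt : F → F → G
  dd : Fˣ →* G
  pt_mem : ∀ A B, pt A B ∈ Q
  pt_surj : ∀ x ∈ Q, ∃ A B, pt A B = x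
  pt_inj : ∀ A B A' B', pt A B = pt A' B' → A = A' ∧ B = B'
  pt_mul : ∀ A B A' B', pt A B * pt A' B' = pt (A + A') (B + B' + φ A * A')
  dd_mem : ∀ k, dd k ∈ stabilizer G a ⊓ stabilizer G (t • a)
  dd_t : ∀ k, t * dd k * t = (dd k)⁻¹
  dd_surj : ∀ x ∈ Cfsg.invertedBy (stabilizer G a ⊓ stabilizer G (t • a)) t, ∃ k, dd k = x
  dd_conj : ∀ (k : Fˣ) A B, dd k * pt A B * (dd k)⁻¹ = pt ((k : F) * A) (φ (k : F) * k * B)
  norm_inj : Function.Injective fun x => φ x * x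
  σ_ne : σ ≠ 0
  base : t * pt 0 σ * t = (pt 1 c)⁻¹ * t * pt 1 c

namespace Coords

variable {G Ω : Type*} [Group G] [MulAction G Ω] {a : Ω} {t : G} {Q : Subgroup G}
  {F : Type} [Field F] [Fintype F] [CharP F 2] (d : Coords a t Q F)

/-- The norm-like map `x ↦ φ x * x`. -/
def nm (x : F) : F := d.φ x * x

/-- The point with coordinates `(A, B)`. -/
def P (A B : F) : Ω := d.pt A B • (t • a)

/-- `t` maps the point `(A, B)` to the point `(A', B')`. -/
def Maps (A B A' B' : F) : Prop := t • d.P A B = d.P A' B'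

omit [Fintype F] [CharP F 2] in
theorem nm_mul (x y : F) : d.nm (x * y) = d.nm x * d.nm y := by
  simp only [nm, map_mul]; ring

omit [Fintype F] [CharP F 2] in
theorem nm_inv (x : F) : d.nm x⁻¹ = (d.nm x)⁻¹ := by
  simp only [nm, map_inv₀, mul_inv]

omit [Fintype F] [CharP F 2] in
theorem nm_div (x y : F) : d.nm (x / y) = d.nm x / d.nm y := by
  rw [div_eq_mul_inv, nm_mul, nm_inv, div_eq_mul_inv]

omit [Fintype F] [CharP F 2] in
theorem nm_zero : d.nm 0 = 0 := by simp [nm]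

omit [Fintype F] [CharP F 2] in
theorem nm_one : d.nm 1 = 1 := by simp [nm]

omit [Fintype F] [CharP F 2] in
theorem nm_eq_zero {x : F} : d.nm x = 0 ↔ x = 0 := by simp [nm]

omit [Fintype F] [CharP F 2] in
theorem nm_add (x y : F) : d.nm (x + y) = d.nm x + d.nm y + d.φ x * y + d.φ y * x := by
  simp only [nm, map_add]; ring

omit [CharP F 2] in
theorem exists_nm (y : F) : ∃ x, d.nm x = y :=
  (Finite.injective_iff_bijective.1 d.norm_inj).2 y

omit [Fintype F] [CharP F 2] in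
theorem pt_zero : d.pt 0 0 = 1 := by
  have h := d.pt_mul 0 0 0 0
  simp only [map_zero, zero_mul, add_zero] at h
  exact mul_eq_left.1 h

omit [Fintype F] in
theorem pt_inv (A B : F) : (d.pt A B)⁻¹ = d.pt A (B + d.nm A) := by
  refine inv_eq_of_mul_eq_one_right ?_
  rw [d.pt_mul, ← d.pt_zero]
  congr 1
  · exact CharTwo.add_self_eq_zero A
  · simp only [nm]; grind

omit [Fintype F] [CharP F 2] in
theorem dd_fix (k : Fˣ) : d.dd k • (t • a) = t • a := (d.dd_mem k).2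

omit [Fintype F] [CharP F 2] in
theorem dd_smul_P (k : Fˣ) (A B : F) : d.dd k • d.P A B = d.P (k * A) (d.nm k * B) := by
  unfold P nm
  conv_lhs => rw [← mul_smul, show d.dd k * d.pt A B = d.dd k * d.pt A B * (d.dd k)⁻¹ * d.dd k by group,
    d.dd_conj, mul_smul, d.dd_fix]

omit [Fintype F] [CharP F 2] in
theorem pt_smul_P (A B A' B' : F) :
    d.pt A B • d.P A' B' = d.P (A + A') (B + B' + d.φ A * A') := by
  rw [P, ← mul_smul, d.pt_mul]; rfl

variable (h : Cfsg.IsRankOneSetup G Ω a t Q)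
include h

omit [Fintype F] [CharP F 2] in
theorem P_inj {A B A' B' : F} (e : d.P A B = d.P A' B') : A = A' ∧ B = B' := by
  refine d.pt_inj _ _ _ _ ?_
  have hb := Setup.smul_ne_self h (d.pt_mem A' B') (Setup.t_smul_ne h)
  exact congrArg Subtype.val ((Setup.regular h (Setup.t_smul_ne h) hb).unique
    (y₁ := (⟨_, d.pt_mem A B⟩ : Q)) (y₂ := (⟨_, d.pt_mem A' B'⟩ : Q)) e rfl)

omit [Fintype F] [CharP F 2] in
theorem tt_smul (x : Ω) : t • t • x = x := by rw [← mul_smul, h.mul_self, one_smul]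

omit [Fintype F] [CharP F 2] in
theorem maps_symm {A B A' B' : F} (e : d.Maps A B A' B') : d.Maps A' B' A B := by
  unfold Maps at *
  rw [← e, tt_smul h]

omit [Fintype F] [CharP F 2] in
theorem maps_unique {A B A₁ B₁ A₂ B₂ : F} (e₁ : d.Maps A B A₁ B₁) (e₂ : d.Maps A B A₂ B₂) :
    A₁ = A₂ ∧ B₁ = B₂ :=
  d.P_inj h (e₁.symm.trans e₂)

omit [Fintype F] [CharP F 2] in
theorem t_dd (k : Fˣ) : t * d.dd k = (d.dd k)⁻¹ * t := by
  rw [← d.dd_t, mul_assoc _ t t, h.mul_self, mul_one]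

omit [Fintype F] [CharP F 2] in
theorem maps_scale {k : F} (hk : k ≠ 0) {A B A' B' : F} (e : d.Maps A B A' B') :
    d.Maps (k * A) (d.nm k * B) (k⁻¹ * A') (d.nm k⁻¹ * B') := by
  unfold Maps at *
  have h1 : ((Units.mk0 k hk : Fˣ) : F) = k := rfl
  have h2 : (((Units.mk0 k hk)⁻¹ : Fˣ) : F) = k⁻¹ := by simp
  calc t • d.P (k * A) (d.nm k * B) = t • d.dd (Units.mk0 k hk) • d.P A B := by rw [dd_smul_P, h1]
    _ = d.dd (Units.mk0 k hk)⁻¹ • t • d.P A B := by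
      rw [← mul_smul, d.t_dd h, map_inv, mul_smul]
    _ = d.P (k⁻¹ * A') (d.nm k⁻¹ * B') := by rw [e, dd_smul_P, h2]

omit [Fintype F] [CharP F 2] h in
theorem t_mul_r : t * d.pt 1 d.c = d.pt 1 d.c * t * d.pt 0 d.σ * t := by
  have e := d.base
  calc t * d.pt 1 d.c = d.pt 1 d.c * ((d.pt 1 d.c)⁻¹ * t * d.pt 1 d.c) := by group
    _ = d.pt 1 d.c * (t * d.pt 0 d.σ * t) := by rw [e]
    _ = _ := by group

omit [Fintype F] in
theorem maps_sigma : d.Maps 0 d.σ 1 (d.c + 1) := by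
  unfold Maps P
  rw [← mul_smul, ← mul_smul, d.base, mul_assoc, mul_smul, mul_smul,
    show d.pt 1 d.c • a = a from h.le (d.pt_mem _ _), d.pt_inv, nm_one]

omit [Fintype F] [CharP F 2] in
theorem maps_r : d.Maps 1 d.c 1 d.c := by
  unfold Maps P
  rw [← mul_smul, d.t_mul_r, mul_smul, tt_smul h, mul_smul, mul_smul,
    show d.pt 0 d.σ • a = a from h.le (d.pt_mem _ _)]

omit [Fintype F] in
/-- `t` at an involution point. -/
theorem maps_E {k : F} (hk : k ≠ 0) :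
    d.Maps 0 (d.nm k * d.σ) k⁻¹ ((d.c + 1) * d.nm k⁻¹) := by
  have e := d.maps_scale h hk (d.maps_sigma h)
  rwa [mul_zero, mul_one, mul_comm (d.nm k⁻¹)] at e

omit [Fintype F] [CharP F 2] h in
/-- `t` after `r` reduces to `t` at one more point. -/
theorem t_smul_r_smul (x : Ω) : t • d.pt 1 d.c • x = d.pt 1 d.c • t • d.pt 0 d.σ • t • x := by
  rw [← mul_smul, d.t_mul_r, mul_smul, mul_smul, mul_smul]

theorem sigma_eq_one : d.σ = 1 := by
  have hc := d.σ_ne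
  obtain ⟨K, hK⟩ := d.exists_nm d.σ⁻¹
  have hK0 : K ≠ 0 := fun e => inv_ne_zero hc (by rw [← hK, e, nm_zero])
  have e1 := d.maps_E h hK0
  rw [hK, inv_mul_cancel₀ hc, nm_inv, hK, inv_inv] at e1
  -- the point of `r * (0, 1) = r⁻¹`
  have e2 := d.t_smul_r_smul (d.P 0 1)
  rw [e1, pt_smul_P, pt_smul_P] at e2
  have e3 := d.maps_scale h (inv_ne_zero hK0) (d.maps_r h)
  rw [mul_one, inv_inv, mul_one, nm_inv, hK, inv_inv] at e3
  have e4 := d.maps_symm h (d.maps_sigma h)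
  have a1 : d.P (1 + 0) (d.c + 1 + d.φ 1 * 0) = d.P 1 (d.c + 1) := by simp
  have a2 : d.P (0 + K⁻¹) (d.σ + (d.c + 1) * d.σ + d.φ 0 * K⁻¹) = d.P K⁻¹ (d.σ * d.c) := by
    congr 1
    · rw [zero_add]
    · rw [map_zero, zero_mul, add_zero]; grind
  rw [a1, show t • d.P 1 (d.c + 1) = d.P 0 d.σ from e4, a2,
    show t • d.P K⁻¹ (d.σ * d.c) = d.P K (d.σ⁻¹ * d.c) from e3, pt_smul_P] at e2
  obtain ⟨eA, eB⟩ := d.P_inj h e2
  rw [map_one, one_mul] at eB
  have : K = 1 := (CharTwo.add_eq_zero.1 eA.symm).symm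
  rw [this, nm_one] at hK
  exact inv_eq_one.1 hK.symm

omit [Fintype F] in
/-- `t` at the product of two conjugates of the base point. -/
theorem maps_X (hσ : d.σ = 1) {x ω : F} (hx : x ≠ 0) (hω : ω ≠ 0) (hn : d.nm ω = 1 + d.nm x) :
    d.Maps (1 + x⁻¹) (d.c + (d.c + 1) * d.nm x⁻¹ + x⁻¹)
      (1 + ω⁻¹) (d.c + (d.c + 1) * d.nm ω⁻¹ + ω⁻¹) := by
  have e1 := d.maps_E h hx
  have e2 := d.maps_E h hω
  rw [hσ, mul_one] at e1 e2
  have e3 := d.t_smul_r_smul (d.P x⁻¹ ((d.c + 1) * d.nm x⁻¹))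
  rw [show t • d.P x⁻¹ ((d.c + 1) * d.nm x⁻¹) = d.P 0 (d.nm x) from d.maps_symm h e1,
    pt_smul_P, pt_smul_P, hσ] at e3
  have a1 : d.P (0 + 0) (1 + d.nm x + d.φ 0 * 0) = d.P 0 (d.nm ω) := by rw [hn]; simp
  rw [a1, show t • d.P 0 (d.nm ω) = d.P ω⁻¹ ((d.c + 1) * d.nm ω⁻¹) from e2, pt_smul_P] at e3
  simpa [Maps, one_mul, map_one] using e3

omit [Fintype F] in
/-- `t` at `r e`, from `t` at a point with involution component. -/
theorem maps_re (hσ : d.σ = 1) {K A B : F} (hK : K ≠ 0)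
    (e : d.Maps K⁻¹ (1 + (d.c + 1) * d.nm K⁻¹) A B) :
    d.Maps 1 (d.c + d.nm K) (1 + A) (d.c + B + A) := by
  have e1 := d.maps_E h hK
  rw [hσ, mul_one] at e1
  have e3 := d.t_smul_r_smul (d.P 0 (d.nm K))
  rw [show t • d.P 0 (d.nm K) = d.P K⁻¹ ((d.c + 1) * d.nm K⁻¹) from e1, pt_smul_P, pt_smul_P, hσ] at e3
  have a2 : d.P (0 + K⁻¹) (1 + (d.c + 1) * d.nm K⁻¹ + d.φ 0 * K⁻¹) =
      d.P K⁻¹ (1 + (d.c + 1) * d.nm K⁻¹) := by simp
  rw [a2, show t • d.P K⁻¹ (1 + (d.c + 1) * d.nm K⁻¹) = d.P A B from e, pt_smul_P] at e3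
  simpa [Maps, one_mul, map_one] using e3

/-- The two equations at a field element. -/
theorem equations (hσ : d.σ = 1) {x : F} (hx : x ≠ 0) (hx1 : x ≠ 1) :
    ∃ ω, ω ≠ 0 ∧ ω * d.φ ω = 1 + x * d.φ x ∧ 1 + x * d.φ x ≠ 0 ∧
      ω * (lam d.c x (d.φ x) * (1 + (x * d.φ x) ^ 2 + (d.c + 1) * (x * d.φ x)) +
          (d.c + 1) * (x + d.φ x)) =
        (1 + x * d.φ x) * (1 + x + x * d.φ x * x * lam d.c x (d.φ x)) ∧
      ω * (1 + d.φ x + x * d.φ x * lam d.c x (d.φ x) * d.φ x) +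
          d.φ ω * (1 + x + x * d.φ x * x * lam d.c x (d.φ x)) =
        x + d.φ x + x * d.φ x * lam d.c x (d.φ x) := by
  obtain ⟨ω, hn⟩ := d.exists_nm (1 + d.nm x)
  have hne : 1 + d.nm x ≠ 0 := by
    intro e
    apply hx1
    apply d.norm_inj
    show d.nm x = d.nm 1
    rw [nm_one, CharTwo.add_eq_zero.1 e]
  have hω : ω ≠ 0 := fun e => hne (by rw [← hn, e, nm_zero])
  have hα : d.nm x ≠ 0 := fun e => hx (d.nm_eq_zero.1 e)
  have h1x : 1 + x ≠ 0 := fun e => hx1 (CharTwo.add_eq_zero.1 e).symm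
  have hN1 : d.nm (1 + x) ≠ 0 := fun e => h1x (d.nm_eq_zero.1 e)
  have hj : x / (1 + x) ≠ 0 := div_ne_zero hx h1x
  have eL := d.maps_scale h hj (d.maps_X h hσ hx hω hn)
  set ε := d.nm (x / (1 + x)) * (d.c + (d.c + 1) * d.nm x⁻¹ + x⁻¹) + d.c with hε
  have hεl : ε * d.nm (1 + x) = lam d.c x (d.φ x) := by
    rw [hε, d.nm_div, d.nm_inv, add_mul, div_mul_eq_mul_div, div_mul_cancel₀ _ hN1, d.nm_add, d.nm_one]
    simp only [lam, nm, map_one] at hα ⊢
    field_simp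
    grind
  have hjA : x / (1 + x) * (1 + x⁻¹) = 1 := by field_simp; ring
  have hjB : d.nm (x / (1 + x)) * (d.c + (d.c + 1) * d.nm x⁻¹ + x⁻¹) = d.c + ε := by
    rw [hε]; grind
  rw [hjA, hjB] at eL
  by_cases hε0 : ε = 0
  · exfalso
    rw [hε0, add_zero] at eL
    have eA := (d.maps_unique h eL (d.maps_r h)).1
    have hω1 : ω = 1 + x := by
      field_simp at eA
      grind
    have hP : d.φ x = x := by
      rw [hω1, d.nm_add, d.nm_one] at hn
      simp only [nm, map_one] at hn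
      grind
    rw [hε0, zero_mul, lam, hP] at hεl
    apply h1x
    grind
  obtain ⟨K, hK⟩ := d.exists_nm ε
  have hK0 : K ≠ 0 := fun e => hε0 (by rw [← hK, e, nm_zero])
  have hn' : d.nm (ω / x) = 1 + d.nm x⁻¹ := by
    rw [d.nm_div, d.nm_inv, hn]; field_simp; ring
  have eX := d.maps_scale h (inv_ne_zero (mul_ne_zero hK0 h1x))
    (d.maps_X h hσ (inv_ne_zero hx) (div_ne_zero hω hx) hn')
  have hA : (K * (1 + x))⁻¹ * (1 + x⁻¹⁻¹) = K⁻¹ := by rw [inv_inv]; field_simp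
  have hα' : d.nm x = x * d.φ x := mul_comm _ _
  have hN1' : d.nm (1 + x) = 1 + x + d.φ x + x * d.φ x := by
    rw [d.nm_add, d.nm_one, hα', map_one]; ring
  have hB : d.nm (K * (1 + x))⁻¹ * (d.c + (d.c + 1) * d.nm x⁻¹⁻¹ + x⁻¹⁻¹) =
      1 + (d.c + 1) * d.nm K⁻¹ := by
    have e : d.c + (d.c + 1) * d.nm x + x = d.nm (1 + x) * (ε + (d.c + 1)) := by
      rw [mul_add, mul_comm _ ε, hεl, hN1', hα', lam]
      grind
    rw [inv_inv, d.nm_inv, d.nm_inv, d.nm_mul, hK, e]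
    field_simp
  rw [hA, hB] at eX
  have eR := d.maps_re h hσ hK0 eX
  rw [hK] at eR
  obtain ⟨qA, qB⟩ := d.maps_unique h eL eR
  simp only [inv_inv, inv_div] at qA qB
  have hωx : ω * d.φ ω = 1 + x * d.φ x := by
    simp only [nm] at hn; linear_combination hn
  have hne' : 1 + x * d.φ x ≠ 0 := by rw [← hα']; exact hne
  have hP : d.φ x ≠ 0 := (map_ne_zero_iff _ d.φ.injective).2 hx
  refine ⟨ω, hω, hωx, hne', ?_, ?_⟩
  · rw [d.nm_div, d.nm_div, d.nm_inv, d.nm_mul, hK, hεl, hn, hN1', hα'] at qB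
    exact second_equation hx hP hω hne' qA qB
  · have hM : K * (1 + x) * (ω + x) * x = 1 + x + ω := by
      field_simp at qA
      clear qB eR eX hA hB eL hjA hjB hε hn'
      grind
    have h2 := congrArg d.nm hM
    rw [d.nm_mul, d.nm_mul, d.nm_mul, hK, hεl, d.nm_add ω x, d.nm_add (1 + x) ω, hN1', hn, hα',
      map_add, map_one] at h2
    exact first_equation (by linear_combination h2)

/-- `c ∈ {0, 1}`. -/
theorem coeff_cases (hσ : d.σ = 1) {n : ℕ} (hn : Fintype.card F = 2 ^ n) (hn2 : 2 ≤ n)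
    (hφ1 : d.φ ≠ RingEquiv.refl F) (hφodd : Odd (orderOf d.φ)) : d.c = 0 ∨ d.c = 1 := by
  obtain ⟨x, hx⟩ := exists_off_curve hn hn2 d.φ hφ1 hφodd
  have hx0 : x ≠ 0 := fun e => hx (by subst e; simp)
  have hx1 : x ≠ 1 := fun e => hx (by subst e; simp [CharTwo.add_self_eq_zero])
  have key : ∀ y : F, y ≠ 0 → y ≠ 1 →
      d.c = 0 ∨ d.c = 1 ∨ (y + d.φ y) ^ 2 = y * d.φ y * lam d.c y (d.φ y) ^ 2 := by
    intro y hy hy1
    obtain ⟨ω, hω, hnω, hne, hB, h1⟩ := d.equations h hσ hy hy1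
    exact coeff_zero_or_one hy ((map_ne_zero_iff _ d.φ.injective).2 hy) hω hnω hne hB h1
  rcases key x hx0 hx1 with e | e | e
  · exact Or.inl e
  · exact Or.inr e
  rcases key x⁻¹ (inv_ne_zero hx0) (fun e' => hx1 (inv_eq_one.1 e')) with e' | e' | e'
  · exact Or.inl e'
  · exact Or.inr e'
  exfalso
  obtain ⟨r, hr⟩ : ∃ r, r ^ 2 = x * d.φ x := ⟨(x * d.φ x) ^ 2 ^ (n - 1), by
    rw [← pow_mul, ← pow_succ, Nat.sub_add_cancel (by omega), ← hn, FiniteField.pow_card]⟩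
  rw [map_inv₀] at e'
  exact hx (curve_c_free hx0 ((map_ne_zero_iff _ d.φ.injective).2 hx0) hr e e')

theorem phi_sq (hσ : d.σ = 1) (hc : d.c = 1) (x : F) : d.φ (d.φ x) = x ^ 2 := by
  by_cases hx : x = 0
  · simp [hx]
  by_cases hx1 : x = 1
  · simp [hx1]
  obtain ⟨ω, hω, hnω, hne, hB, -⟩ := d.equations h hσ hx hx1
  rw [hc] at hB
  have hw := omega_eq hx1 hne hB
  have hP : d.φ x ≠ 0 := (map_ne_zero_iff _ d.φ.injective).2 hx
  have hP1 : d.φ x ≠ 1 := fun e => hx1 (d.φ.injective (by rw [e, map_one]))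
  refine second_image hP hP1 hne ?_ ?_
  · intro e
    apply hne
    apply d.φ.injective
    simpa [map_add, map_mul] using e
  · rw [hw] at hnω
    simpa [map_div₀, map_add, map_mul] using hnω

omit h in
/-- Exchange `φ` and `φ⁻¹`. -/
noncomputable def swap (hσ : d.σ = 1) : Coords a t Q F where
  φ := d.φ.symm
  c := d.c + 1
  σ := 1
  pt A B := d.pt (d.φ.symm A) (B + A * d.φ.symm A)
  dd := d.dd.comp (Units.map (d.φ.symm : F →* F))
  pt_mem _ _ := d.pt_mem _ _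
  pt_surj x hx := by
    obtain ⟨A, B, e⟩ := d.pt_surj x hx
    refine ⟨d.φ A, B + d.φ A * A, ?_⟩
    rw [← e, d.φ.symm_apply_apply]
    congr 1
    grind
  pt_inj A B A' B' e := by
    obtain ⟨e1, e2⟩ := d.pt_inj _ _ _ _ e
    have := d.φ.symm.injective e1
    subst this
    exact ⟨rfl, add_right_cancel e2⟩
  pt_mul A B A' B' := by
    rw [d.pt_mul, map_add, d.φ.apply_symm_apply]
    congr 1
    grind
  dd_mem _ := d.dd_mem _
  dd_t _ := d.dd_t _
  dd_surj x hx := by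
    obtain ⟨k, e⟩ := d.dd_surj x hx
    refine ⟨Units.map (d.φ : F →* F) k, ?_⟩
    rw [← e, MonoidHom.comp_apply]
    congr 1
    ext
    simp
  dd_conj k A B := by
    rw [MonoidHom.comp_apply, d.dd_conj]
    congr 1
    · simp
    · simp [map_mul]; ring
  norm_inj x y e := by
    apply d.φ.symm.injective
    apply d.norm_inj
    simpa [mul_comm] using e
  σ_ne := one_ne_zero
  base := by
    have e : d.pt (d.φ.symm (0 : F)) (1 + 0 * d.φ.symm 0) = d.pt 0 d.σ := by simp [hσ]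
    have e' : d.pt (d.φ.symm (1 : F)) (d.c + 1 + 1 * d.φ.symm 1) = d.pt 1 d.c := by
      rw [map_one]; congr 1; grind
    rw [e, e']
    exact d.base

end Coords

end Cfsg.Agent.SuzukiRankOne.Suzuki
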