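import Cfsg.Agent.Lib.SuzukiRankOne.Regular
import Cfsg.Agent.Lib.SuzukiRankOne.Elementary
import Cfsg.Agent.Lib.SuzukiRankOne.Suzuki.Equation
import Cfsg.Agent.Lib.SuzukiTwo.TypeA
/-!
# Coordinates of type A on `Q` when `|Q| = q²`

* `sq_base_ne_one` : the base element `r` is not an involution;
* `exists_split` : an equivariant symmetric cocycle with zero diagonal is a coboundary, equivariantly;
* `exists_coords_sq` : the coordinates of `Equation`.
-/

set_option autoImplicit false

namespace Cfsg.Agent.SuzukiRankOne.Suzuki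

open MulAction Cfsg.Agent.RankOne Cfsg.Agent.RankOne.Setup

universe u v

section Cocycle

variable {F : Type*} [Field F] [Fintype F] [CharP F 2]

/-- A symmetric cocycle with zero diagonal splits. -/
theorem exists_coboundary (δ : F → F → F) (hc : ∀ x y z, δ x y + δ (x + y) z = δ y z + δ x (y + z))
    (hs : ∀ x y, δ x y = δ y x) (hd : ∀ x, δ x x = 0) (h0 : ∀ x, δ x 0 = 0) :
    ∃ h : F → F, ∀ x y, δ x y = h x + h y + h (x + y) := by
  classical
  have key : ∀ s : Finset F, ∃ h : F → F, ∀ x ∈ AddSubgroup.closure (s : Set F),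
      ∀ y ∈ AddSubgroup.closure (s : Set F), δ x y = h x + h y + h (x + y) := by
    intro s
    induction s using Finset.induction_on with
    | empty =>
      refine ⟨fun _ => 0, fun x hx y hy => ?_⟩
      rw [Finset.coe_empty, AddSubgroup.closure_empty, AddSubgroup.mem_bot] at hx hy
      rw [hx, hy, h0]; simp
    | @insert e s _ ih =>
      obtain ⟨h, hh⟩ := ih
      set K := AddSubgroup.closure (s : Set F) with hK
      have hKe : ∀ x ∈ AddSubgroup.closure ((insert e s : Finset F) : Set F), x ∈ K ∨ x + e ∈ K := by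
        intro x hx
        induction hx using AddSubgroup.closure_induction with
        | mem y hy =>
          rcases Finset.mem_insert.1 hy with rfl | hy
          · exact Or.inr (by rw [CharTwo.add_self_eq_zero]; exact K.zero_mem)
          · exact Or.inl (AddSubgroup.subset_closure hy)
        | zero => exact Or.inl K.zero_mem
        | add y z _ _ hy hz =>
          rcases hy with hy | hy <;> rcases hz with hz | hz
          · exact Or.inl (K.add_mem hy hz)
          · exact Or.inr (by rw [add_assoc]; exact K.add_mem hy hz)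
          · exact Or.inr (by rw [add_right_comm]; exact K.add_mem hy hz)
          · refine Or.inl ?_
            have e1 := K.add_mem hy hz
            rwa [add_add_add_comm, CharTwo.add_self_eq_zero, add_zero] at e1
        | neg y _ hy => rw [CharTwo.neg_eq]; exact hy
      by_cases he : e ∈ K
      · refine ⟨h, fun x hx y hy => ?_⟩
        have hin : ∀ x ∈ AddSubgroup.closure ((insert e s : Finset F) : Set F), x ∈ K := fun x hx => by
          rcases hKe x hx with hx | hx
          · exact hx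
          · simpa [add_assoc, CharTwo.add_self_eq_zero] using K.add_mem hx he
        exact hh x (hin x hx) y (hin y hy)
      let g : F → F := fun x => if x ∈ K then h x else h (x + e) + δ (x + e) e
      have gin : ∀ x ∈ K, g x = h x := fun x hx => if_pos hx
      have gout : ∀ x ∈ K, g (x + e) = h x + δ x e := fun x hx => by
        have hne : x + e ∉ K := fun hc' => he (by simpa using (K.add_mem_cancel_left hx).1 hc')
        show (if x + e ∈ K then _ else _) = _
        rw [if_neg hne, add_assoc, CharTwo.add_self_eq_zero, add_zero]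
      have hcases : ∀ x ∈ AddSubgroup.closure ((insert e s : Finset F) : Set F),
          x ∈ K ∨ ∃ x' ∈ K, x = x' + e := fun x hx => (hKe x hx).imp id fun hx' =>
        ⟨x + e, hx', by rw [add_assoc, CharTwo.add_self_eq_zero, add_zero]⟩
      have two : ∀ a : F, a + a = 0 := CharTwo.add_self_eq_zero
      refine ⟨g, fun x hx y hy => ?_⟩
      rcases hcases x hx with h1 | ⟨x', h1, rfl⟩ <;> rcases hcases y hy with h2 | ⟨y', h2, rfl⟩
      · rw [gin x h1, gin y h2, gin _ (K.add_mem h1 h2)]; exact hh x h1 y h2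
      · rw [gin x h1, gout y' h2, ← add_assoc x, gout _ (K.add_mem h1 h2)]
        have e1 := hc x y' e
        have e2 := hh x h1 y' h2
        grind
      · rw [gin y h2, gout x' h1, add_right_comm x' e y, gout _ (K.add_mem h1 h2)]
        have e1 := hc y x' e
        have e2 := hh x' h1 y h2
        have e3 := hs (x' + e) y
        have e4 := hs x' y
        have e5 := add_comm y x'
        grind
      · rw [gout x' h1, gout y' h2,
          show x' + e + (y' + e) = x' + y' by rw [add_add_add_comm, two, add_zero],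
          gin _ (K.add_mem h1 h2)]
        have e1 := hc x' e (y' + e)
        have e2 := hh x' h1 y' h2
        have e3 := hc y' e e
        rw [show e + (y' + e) = y' by rw [add_comm y' e, ← add_assoc, two, zero_add]] at e1
        rw [two, hd, h0] at e3
        have e4 := hs e (y' + e)
        grind
  obtain ⟨h, hh⟩ := key Finset.univ
  exact ⟨h, fun x y => hh x (AddSubgroup.subset_closure (by simp)) y
    (AddSubgroup.subset_closure (by simp))⟩

/-- The splitting can be made equivariant. -/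
theorem exists_split (N : F →* F) (hN : ∀ x, x ≠ 0 → N x ≠ 0) (δ : F → F → F)
    (hc : ∀ x y z, δ x y + δ (x + y) z = δ y z + δ x (y + z))
    (hs : ∀ x y, δ x y = δ y x) (hd : ∀ x, δ x x = 0) (h0 : ∀ x, δ x 0 = 0)
    (he : ∀ (k : Fˣ) x y, δ ((k : F) * x) ((k : F) * y) = N k * δ x y) :
    ∃ H : F → F, (∀ x y, δ x y = H x + H y + H (x + y)) ∧ (∀ (k : Fˣ) x, H ((k : F) * x) = N k * H x) ∧
      H 0 = 0 := by
  classical
  obtain ⟨h, hh⟩ := exists_coboundary δ hc hs hd h0
  have hh0 : h 0 = 0 := by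
    have e := hh 0 0
    rw [hd, add_zero] at e
    simpa [CharTwo.add_self_eq_zero] using e.symm
  refine ⟨fun x => ∑ k : Fˣ, (N k)⁻¹ * h ((k : F) * x), fun x y => ?_, fun l x => ?_, by simp [hh0]⟩
  · rw [← Finset.sum_add_distrib, ← Finset.sum_add_distrib]
    have e : ∀ k : Fˣ, (N k)⁻¹ * h ((k : F) * x) + (N k)⁻¹ * h ((k : F) * y) +
        (N k)⁻¹ * h ((k : F) * (x + y)) = δ x y := fun k => by
      rw [← mul_add, ← mul_add, mul_add (k : F), ← hh, he, ← mul_assoc,
        inv_mul_cancel₀ (hN _ k.ne_zero), one_mul]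
    rw [Finset.sum_congr rfl fun k _ => e k, Finset.sum_const, Finset.card_univ, nsmul_eq_mul,
      Fintype.card_units]
    obtain ⟨m, -, hm⟩ := FiniteField.card F 2
    rw [hm, Nat.cast_sub (Nat.one_le_two_pow), Nat.cast_pow, Nat.cast_ofNat, CharTwo.two_eq_zero,
      zero_pow m.ne_zero, Nat.cast_one, CharTwo.sub_eq_add, zero_add, one_mul]
  · rw [Finset.mul_sum]
    refine Fintype.sum_equiv (Equiv.mulRight l) _ _ fun k => ?_
    simp only [Equiv.coe_mulRight, Units.val_mul, map_mul]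
    rw [← mul_assoc (N l), mul_inv, mul_comm (N k : F)⁻¹ (N l : F)⁻¹, ← mul_assoc (N l),
      mul_inv_cancel₀ (hN _ l.ne_zero), one_mul, mul_assoc (k : F)]

end Cocycle

/-- The map `x ↦ φ x * x`. -/
def nrm {F : Type*} [Field F] (φ : F ≃+* F) : F →* F where
  toFun x := φ x * x
  map_one' := by simp
  map_mul' x y := by simp only [map_mul]; ring

@[simp] theorem nrm_apply {F : Type*} [Field F] (φ : F ≃+* F) (x : F) : nrm φ x = φ x * x := rfl

/-- An equivariant section with cocycle `φ x * y`. -/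
theorem exists_section {F : Type*} [Field F] [Fintype F] [CharP F 2] {P : Type*} [Group P] (z : F → P)
    (X : P → F) (φ : F ≃+* F) (act : Fˣ → MulAut P) (hzQ : ∀ x y, z (x + y) = z x * z y)
    (hzi : Function.Injective z) (hzc : ∀ x p, z x * p = p * z x) (hzs : ∀ p, X p = 0 → ∃ x, z x = p)
    (hXz : ∀ x, X (z x) = 0) (hX : ∀ p r, X (p * r) = X p + X r) (hX1' : ∃ p, X p = 1)
    (hXsq : ∀ p, p * p = z (φ (X p) * X p))
    (hinj : Function.Injective fun x : F => φ x * x)
    (hTz : ∀ κ x, act κ (z x) = z (φ (κ : F) * κ * x))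
    (hXT : ∀ κ p, X (act κ p) = (κ : F) * X p)
    (hmul : ∀ κ κ' p, act (κ * κ') p = act κ (act κ' p)) :
    ∃ S : F → P, (∀ x y, S x * S y = S (x + y) * z (φ x * y)) ∧
      (∀ (κ : Fˣ) x, act κ (S x) = S ((κ : F) * x)) ∧ (∀ x B, X (S x * z B) = x) ∧ S 0 = 1 ∧
      ∀ p, ∃ B, S (X p) * z B = p := by
  classical
  obtain ⟨p₁, hp₁⟩ := hX1'
  have hX1 : X 1 = 0 := by simpa using hX 1 1
  have hXi : ∀ p, X p⁻¹ = X p := fun p => by
    have := hX p⁻¹ p
    rw [inv_mul_cancel, hX1] at this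
    exact CharTwo.add_eq_zero.1 this.symm
  have hz0 : z 0 = 1 := by simpa using hzQ 0 0
  have hN0 : ∀ x, x ≠ 0 → nrm φ x ≠ 0 := fun x hx e => hx (hinj (by simpa using e))
  let s0 : F → P := fun x => if hx : x = 0 then 1 else act (Units.mk0 x hx) p₁
  have hs00 : s0 0 = 1 := dif_pos rfl
  have hXs : ∀ x, X (s0 x) = x := fun x => by
    by_cases hx : x = 0
    · rw [hx, hs00, hX1]
    · simp only [s0, dif_neg hx, hXT, hp₁, mul_one, Units.val_mk0]
  have hs0T : ∀ (κ : Fˣ) x, act κ (s0 x) = s0 ((κ : F) * x) := fun κ x => by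
    by_cases hx : x = 0
    · rw [hx, mul_zero, hs00, map_one]
    · simp only [s0, dif_neg hx, dif_neg (mul_ne_zero κ.ne_zero hx), ← hmul]
      rw [show κ * Units.mk0 x hx = Units.mk0 ((κ : F) * x) (mul_ne_zero κ.ne_zero hx) from Units.ext rfl]
  have hex : ∀ x y, ∃ b, s0 x * s0 y = s0 (x + y) * z b := fun x y => by
    obtain ⟨b, hb⟩ := hzs ((s0 (x + y))⁻¹ * (s0 x * s0 y)) (by
      rw [hX, hX, hXi, hXs, hXs, hXs, CharTwo.add_self_eq_zero])
    exact ⟨b, by rw [hb, mul_inv_cancel_left]⟩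
  choose β hβ using hex
  have hmove : ∀ (p q : P) x y, p * z x * (q * z y) = p * q * z (x + y) := fun p q x y => by
    rw [hzQ, mul_assoc p, ← mul_assoc (z x), hzc x q, mul_assoc q, ← mul_assoc p]
  have hcanc : ∀ {p : P} {x y}, p * z x = p * z y → x = y := fun {p x y} e => hzi (mul_left_cancel e)
  have hβc : ∀ x y w, β x y + β (x + y) w = β y w + β x (y + w) := fun x y w => by
    apply hcanc (p := s0 (x + y + w))
    have e1 : s0 x * s0 y * s0 w = s0 (x + y + w) * z (β (x + y) w + β x y) := by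
      rw [hβ x y, mul_assoc, hzc (β x y) (s0 w), ← mul_assoc, hβ, mul_assoc, ← hzQ]
    have e2 : s0 x * (s0 y * s0 w) = s0 (x + y + w) * z (β x (y + w) + β y w) := by
      rw [hβ y w, ← mul_assoc, hβ x (y + w), mul_assoc, ← hzQ, add_assoc x y w]
    rw [mul_assoc, e2, add_comm (β (x + y) w), add_comm (β x (y + w))] at e1
    exact e1.symm
  have hβd : ∀ x, β x x = φ x * x := fun x => by
    have e := hβ x x
    rw [CharTwo.add_self_eq_zero, hs00, one_mul, hXsq, hXs] at e
    exact (hzi e).symm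
  have hβs : ∀ x y, β x y + β y x = φ x * y + φ y * x := fun x y => by
    have e : s0 x * s0 y * (s0 y * s0 x) = z (φ x * x + φ y * y) := by
      rw [mul_assoc (s0 x), ← mul_assoc (s0 y) (s0 y), hXsq, hXs, hzc, ← mul_assoc, hXsq, hXs, ← hzQ]
    rw [hβ, hβ y x, add_comm y x, hmove, hXsq, hXs, ← hzQ] at e
    have e' := hzi e
    rw [map_add] at e'
    clear e hmove hcanc hβc hβd hβ hs0T hXs hXsq hX hXz hTz hXT hmul hzs hzc hzQ hXi
    grind
  have hβ0 : ∀ x, β x 0 = 0 := fun x => by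
    have e := hβ x 0
    rw [add_zero, hs00] at e
    exact hcanc (p := s0 x) (x := β x 0) (y := 0) (by rw [← e, hz0])
  have hβT : ∀ (κ : Fˣ) x y, β ((κ : F) * x) ((κ : F) * y) = φ (κ : F) * κ * β x y := fun κ x y => by
    have e := congrArg (act κ) (hβ x y)
    rw [map_mul, map_mul, hs0T, hs0T, hs0T, hTz, hβ, mul_add] at e
    exact hcanc e
  obtain ⟨H, hH, hHT, hH0⟩ := exists_split (nrm φ) hN0 (fun x y => β x y + φ x * y)
    (fun x y w => by
      simp only [map_add]
      linear_combination hβc x y w)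
    (fun x y => by
      have := hβs x y
      clear * - this
      grind)
    (fun x => by simp only [hβd]; exact CharTwo.add_self_eq_zero _)
    (fun x => by simp only [hβ0, mul_zero, add_zero])
    (fun κ x y => by
      simp only [hβT, map_mul, nrm_apply]
      ring)
  refine ⟨fun x => s0 x * z (H x), fun x y => ?_, fun κ x => ?_, fun x B => ?_, ?_, fun p => ?_⟩
  · rw [hmove, hβ, mul_assoc, ← hzQ, mul_assoc, ← hzQ]
    congr 2
    have := hH x y
    clear * - this
    grind
  · show act κ (s0 x * z (H x)) = s0 ((κ : F) * x) * z (H ((κ : F) * x))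
    rw [map_mul, hs0T, hTz, hHT, nrm_apply]
  · rw [hX, hX, hXz, hXz, hXs, add_zero, add_zero]
  · show s0 0 * z (H 0) = 1
    rw [hs00, hH0, hz0, mul_one]
  · obtain ⟨B, hB⟩ := hzs ((s0 (X p) * z (H (X p)))⁻¹ * p) (by
      rw [hX, hXi, hX, hXz, hXs, add_zero, CharTwo.add_self_eq_zero])
    exact ⟨B, by rw [hB, mul_inv_cancel_left]⟩

variable {G : Type u} {Ω : Type v} [Group G] [Finite G] [MulAction G Ω] [FaithfulSMul G Ω] {a : Ω} {t : G}
  {Q : Subgroup G} (h : Cfsg.IsRankOneSetup G Ω a t Q) (h2 : TwoInvolutions G)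
include h h2

/-- If `|Q| = q²` then `r` is not an involution. -/
theorem sq_base_ne_one {F : Type} [Field F] [Finite F] [CharP F 2] (C : SuzukiRankOne.Coords a t Q F)
    (hQ : Nat.card Q = Nat.card F ^ 2) {r : G} (hr : r ∈ Q) (he : t * C.z 1 * t = r⁻¹ * t * r) :
    r * r ≠ 1 := by
  intro hr2
  obtain ⟨P, -⟩ := C.exists_frame h h2 hr he hr2
  have := finite_omega h
  let _ := Fintype.ofFinite F
  have hq : 2 ≤ Nat.card F := Finite.one_lt_card
  have hΩ : Nat.card Ω = Nat.card F ^ 2 + 1 := by rw [card_omega h, hQ]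
  obtain ⟨x, hx⟩ : ∃ x, x ∉ P.Blk := by
    by_contra hc
    push Not at hc
    have h1 : Nat.card Ω ≤ Nat.card P.Blk :=
      Nat.card_le_card_of_injective (fun x => (⟨x, hc x⟩ : P.Blk)) fun x y e => congrArg Subtype.val e
    rw [hΩ, P.blk_card, Finite.card_option] at h1
    nlinarith
  have h1 : Nat.card (Matrix.SpecialLinearGroup (Fin 2) F) ≤ Nat.card Ω :=
    Nat.card_le_card_of_injective (fun g => P.hom g • x) fun g g' e => P.hom_smul_inj hx e
  rw [hΩ, GLOrder.card_SL_two] at h1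
  have h3 : 3 ≤ Nat.card F ^ 2 - 1 := by
    have := Nat.pow_le_pow_left hq 2
    omega
  have h4 := Nat.mul_le_mul_left (Nat.card F) h3
  have h5 : Nat.card F ^ 2 = Nat.card F * Nat.card F := pow_two _
  by_cases hq3 : 3 ≤ Nat.card F
  · have h6 : Nat.card F * (2 * Nat.card F) ≤ Nat.card F * (Nat.card F ^ 2 - 1) := by
      refine Nat.mul_le_mul_left _ ?_
      have := Nat.mul_le_mul_right (Nat.card F) hq3
      omega
    have h7 : Nat.card F * (2 * Nat.card F) = 2 * (Nat.card F * Nat.card F) := by ring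
    have h8 := Nat.mul_le_mul hq3 hq3
    omega
  · have : Nat.card F = 2 := by omega
    rw [this] at h1
    omega

/-- Coordinates of type A exist. -/
theorem exists_coords_sq (hp : IsPGroup 2 Q) (hna : ¬ IsMulCommutative Q)
    (hQ : Nat.card Q = param G a ^ 2) :
    ∃ n : ℕ, 2 ≤ n ∧ param G a = 2 ^ n ∧ ∃ d : Coords a t Q (GaloisField 2 n),
      d.φ ≠ RingEquiv.refl _ ∧ Odd (orderOf d.φ) := by
  classical
  obtain ⟨n, hn, hqn, ⟨C⟩⟩ := SuzukiRankOne.exists_coords h h2
  refine ⟨n, hn, hqn, ?_⟩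
  set F := GaloisField 2 n
  let _ : Fintype F := Fintype.ofFinite _
  have hcF : Nat.card F = param G a := by rw [hqn, GaloisField.card 2 n (by omega)]
  have hCq : ∀ x, C.z x ∈ Q := C.z_mem_Q h
  let zQ : F → Q := fun x => ⟨C.z x, hCq x⟩
  have hzQ : ∀ x y, zQ (x + y) = zQ x * zQ y := fun x y => Subtype.ext (C.z_add x y)
  have hzc : ∀ x (p : Q), zQ x * p = p * zQ x := fun x p => Subtype.ext (C.z_commute h h2 x p.2)
  have hzs : ∀ p : Q, p * p = 1 → ∃ x, zQ x = p := fun p hp' => by
    obtain ⟨x, hx⟩ := C.z_surj p (h.le p.2) (congrArg Subtype.val hp')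
    exact ⟨x, Subtype.ext hx⟩
  have hzi : Function.Injective zQ := fun x y e => C.z_inj (congrArg Subtype.val e)
  have hz0 : zQ 0 = 1 := Subtype.ext C.z_zero
  have hzsq : ∀ x, zQ x * zQ x = 1 := fun x => Subtype.ext (C.z_sq x)
  have hconjQ : ∀ (b : Fˣ), ∀ p ∈ Q, C.k b * p * (C.k b)⁻¹ ∈ Q := fun b p hp' =>
    h.conj_mem _ (C.k_mem_dd b).1 p hp'
  let cj : Fˣ → MulAut Q := fun b =>
    { toFun := fun p => ⟨C.k b * p * (C.k b)⁻¹, hconjQ b p p.2⟩
      invFun := fun p => ⟨C.k b⁻¹ * p * (C.k b⁻¹)⁻¹, hconjQ b⁻¹ p p.2⟩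
      left_inv := fun p => Subtype.ext (by simp [mul_assoc])
      right_inv := fun p => Subtype.ext (by simp [mul_assoc])
      map_mul' := fun p q => Subtype.ext (by simp [mul_assoc]) }
  have hcjz : ∀ b x, cj b (zQ x) = zQ ((b : F) * b * x) := fun b x => Subtype.ext (C.k_conj b x)
  obtain ⟨b₀, hb₀⟩ := IsCyclic.exists_monoid_generator (α := Fˣ)
  have hsq : ∀ y : F, ∃ b : F, b * b = y := fun y => by
    obtain ⟨b, hb⟩ := FiniteField.isSquare_of_char_two (ringChar.eq F 2) y
    exact ⟨b, hb.symm⟩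
  have hgen : ∀ x : F, x ≠ 0 → ∃ j : ℕ, ((b₀ : F) * b₀) ^ j = x := fun x hx => by
    obtain ⟨y, rfl⟩ := hsq x
    obtain ⟨j, hj⟩ := hb₀ (Units.mk0 y (fun e => hx (by rw [e, mul_zero])))
    refine ⟨j, ?_⟩
    rw [mul_pow]
    have : (b₀ : F) ^ j = y := by rw [← Units.val_pow_eq_pow_val]; exact congrArg Units.val hj
    rw [this]
  have hcj0 : ∀ v : Q, v * v = 1 → cj b₀ v * cj b₀ v = 1 := fun v hv => by rw [← map_mul, hv, map_one]
  let D : SuzukiTwo.SuzData Q F :=
    { g := cj b₀
      ι := Function.invFun zQ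
      ω := (b₀ : F) * b₀
      finite := inferInstance
      pgroup := hp
      central := fun v hv => Subgroup.mem_center_iff.2 fun p => by
        obtain ⟨x, rfl⟩ := hzs v hv; exact (hzc x p).symm
      ι_mul := fun v w hv hw => by
        obtain ⟨x, rfl⟩ := hzs v hv
        obtain ⟨y, rfl⟩ := hzs w hw
        simp only [← hzQ, Function.leftInverse_invFun hzi _]
      ι_eq_zero := fun v hv he => by
        obtain ⟨x, rfl⟩ := hzs v hv
        rw [Function.leftInverse_invFun hzi x] at he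
        rw [he, hz0]
      ι_surj := fun x => ⟨zQ x, hzsq x, Function.leftInverse_invFun hzi x⟩
      ι_g := fun v hv => by
        obtain ⟨x, rfl⟩ := hzs v hv
        rw [hcjz, Function.leftInverse_invFun hzi x, Function.leftInverse_invFun hzi]
      ω_ne_zero := mul_ne_zero b₀.ne_zero b₀.ne_zero
      generates := hgen
      ω_ne_one := fun e => by
        have hsub : ∀ x : F, x = 0 ∨ x = 1 := fun x => or_iff_not_imp_left.2 fun hx => by
          obtain ⟨j, hj⟩ := hgen x hx
          rw [← hj, e, one_pow]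
        have hcard : Fintype.card F ≤ 2 := by
          have h1 : (Finset.univ : Finset F) ⊆ {0, 1} := fun x _ => by
            rcases hsub x with rfl | rfl <;> simp
          exact (Finset.card_le_card h1).trans (Finset.card_le_two)
        rw [← Nat.card_eq_fintype_card, GaloisField.card 2 n (by omega)] at hcard
        have := Nat.pow_le_pow_right (show 1 ≤ 2 by norm_num) hn
        omega
      nonabelian := by
        by_contra hc
        push Not at hc
        exact hna ⟨⟨hc⟩⟩ }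
  have hι : ∀ x, D.ι (zQ x) = x := fun x => Function.leftInverse_invFun hzi x
  obtain ⟨X₀, φ, cc, hcc, hX₀, hXs₀, hX0₀, hsq₀, hinj⟩ := D.exists_typeA_form (by
    rw [D.center_eq_V, D.card_V, hQ, hcF])
  let N : F →* F := nrm φ
  have hN0 : ∀ x, x ≠ 0 → N x ≠ 0 := fun x hx e => hx (hinj (by simpa [N] using e))
  have hNs : ∀ y, ∃ x, N x = y := fun y => (Finite.injective_iff_bijective.1 hinj).2 y
  obtain ⟨K, hK⟩ := hNs cc
  have hK0 : K ≠ 0 := fun e => hcc (by rw [← hK, e]; simp [N])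
  obtain ⟨X, hXdef⟩ : ∃ X : Q → F, ∀ p, X p = K * X₀ p := ⟨_, fun _ => rfl⟩
  have hX : ∀ p r, X (p * r) = X p + X r := fun p r => by simp only [hXdef, hX₀, mul_add]
  have hX0 : ∀ p, X p = 0 ↔ p * p = 1 := fun p => by simp only [hXdef, mul_eq_zero, hK0, false_or, hX0₀]
  have hXsq : ∀ p : Q, p * p = zQ (φ (X p) * X p) := fun p => by
    obtain ⟨x, hx⟩ := hzs (p * p) (D.sq_mem_V p)
    have e := hsq₀ p
    rw [← hx, hι] at e
    rw [← hx, e]
    congr 1
    rw [hXdef, ← nrm_apply φ (K * X₀ p), map_mul]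
    show cc * _ = N K * _
    rw [hK, nrm_apply]
  have hXz : ∀ x, X (zQ x) = 0 := fun x => (hX0 _).2 (hzsq x)
  -- the torus
  obtain ⟨rt, hrt⟩ : ∃ rt : Fˣ →* Fˣ, ∀ κ : Fˣ, (rt κ : F) * rt κ = N κ := by
    choose s hs using hsq
    have hs0 : ∀ κ : Fˣ, s (N κ) ≠ 0 := fun κ e => hN0 _ κ.ne_zero (by rw [← hs (N κ), e, mul_zero])
    refine ⟨MonoidHom.mk' (fun κ => Units.mk0 _ (hs0 κ)) fun κ κ' => Units.ext ?_, fun κ => hs _⟩
    apply frobenius_inj F 2
    simp only [frobenius_def, Units.val_mk0, Units.val_mul, pow_two]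
    rw [hs, map_mul, mul_mul_mul_comm, hs, hs]
  have hrtN : ∀ κ : Fˣ, (rt κ : F) * rt κ = φ (κ : F) * κ := hrt
  obtain ⟨act, hact⟩ : ∃ act : Fˣ → MulAut Q, ∀ κ, act κ = cj (rt κ) := ⟨_, fun _ => rfl⟩
  have hTz : ∀ (κ : Fˣ) x, act κ (zQ x) = zQ (φ (κ : F) * κ * x) := fun κ x => by
    rw [hact, hcjz, hrtN]
  have hXT : ∀ (κ : Fˣ) (p : Q), X (act κ p) = κ * X p := fun κ p => by
    have e : act κ p * act κ p = zQ (φ (κ : F) * κ * (φ (X p) * X p)) := by
      rw [← map_mul, hXsq, hTz]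
    rw [hXsq] at e
    apply hinj
    show φ (X (act κ p)) * X (act κ p) = φ ((κ : F) * X p) * ((κ : F) * X p)
    rw [hzi e, map_mul]
    ring
  have hcjmul : ∀ κ κ' p, act (κ * κ') p = act κ (act κ' p) := fun κ κ' p => Subtype.ext (by
    simp only [hact]
    show C.k (rt (κ * κ')) * (p : G) * (C.k (rt (κ * κ')))⁻¹ =
      C.k (rt κ) * (C.k (rt κ') * (p : G) * (C.k (rt κ'))⁻¹) * (C.k (rt κ))⁻¹
    rw [map_mul, map_mul]
    group)
  obtain ⟨S, hSS, hST, hXS, hS0, hsplit⟩ := exists_section zQ X φ act hzQ hzi hzc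
    (fun p hp' => hzs p ((hX0 p).1 hp')) hXz hX
    (by obtain ⟨p, hp'⟩ := hXs₀ K⁻¹; exact ⟨p, by rw [hXdef, hp', mul_inv_cancel₀ hK0]⟩)
    hXsq hinj hTz hXT hcjmul
  have hmove : ∀ (p q : Q) x y, p * zQ x * (q * zQ y) = p * q * zQ (x + y) := fun p q x y => by
    rw [hzQ, mul_assoc p, ← mul_assoc (zQ x), hzc x q, mul_assoc q, ← mul_assoc p]
  -- the base element
  obtain ⟨r, hr, her⟩ := C.dist
  have hr2 : r * r ≠ 1 := sq_base_ne_one h h2 C (by rw [hQ, hcF]) hr her
  let rQ : Q := ⟨r, hr⟩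
  obtain ⟨A₀, hA₀⟩ : ∃ A₀, A₀ = X rQ := ⟨_, rfl⟩
  have hA0 : A₀ ≠ 0 := fun e => hr2 (congrArg Subtype.val ((hX0 rQ).1 (hA₀ ▸ e)))
  have hNA : N A₀ ≠ 0 := hN0 _ hA0
  obtain ⟨B₀, hB₀⟩ := hsplit rQ
  obtain ⟨pt, hpt⟩ : ∃ pt : F → F → G, ∀ A B, pt A B = ((S (A₀ * A) * zQ (N A₀ * B) : Q) : G) :=
    ⟨_, fun _ _ => rfl⟩
  have hpt0 : pt 0 (N A₀)⁻¹ = C.z 1 := by
    rw [hpt, mul_zero, hS0, one_mul, mul_inv_cancel₀ hNA]
  refine ⟨
    { φ := φ
      c := B₀ / N A₀
      σ := (N A₀)⁻¹
      pt := pt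
      dd := C.k.comp rt
      pt_mem := fun A B => by rw [hpt]; exact SetLike.coe_mem _
      pt_surj := fun x hx => by
        obtain ⟨B, hB⟩ := hsplit ⟨x, hx⟩
        refine ⟨X ⟨x, hx⟩ / A₀, B / N A₀, ?_⟩
        rw [hpt, mul_div_cancel₀ _ hA0, mul_div_cancel₀ _ hNA, hB]
      pt_inj := fun A B A' B' e => by
        rw [hpt, hpt] at e
        have e' := Subtype.ext e
        have h1 : A₀ * A = A₀ * A' := by
          have := congrArg X e'
          rwa [hXS, hXS] at this
        rw [h1] at e'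
        exact ⟨mul_left_cancel₀ hA0 h1, mul_left_cancel₀ hNA (hzi (mul_left_cancel e'))⟩
      pt_mul := fun A B A' B' => by
        rw [hpt, hpt, hpt, ← Subgroup.coe_mul]
        congr 1
        rw [hmove, hSS, ← mul_add A₀, mul_assoc, ← hzQ]
        congr 2
        simp only [N, nrm_apply, map_mul]
        ring
      dd_mem := fun κ => C.k_mem_dd _
      dd_t := fun κ => by
        show t * C.k (rt κ) * t = (C.k (rt κ))⁻¹
        rw [C.t_k_t h, map_inv]
      dd_surj := fun x hx => by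
        obtain ⟨b, hb⟩ := C.k_surj x hx
        obtain ⟨κ, hκ⟩ := hNs ((b : F) * b)
        have hκ0 : κ ≠ 0 := fun e => mul_ne_zero b.ne_zero b.ne_zero (by rw [← hκ, e]; simp [N])
        refine ⟨Units.mk0 κ hκ0, ?_⟩
        rw [← hb]
        show C.k (rt _) = C.k b
        congr 1
        apply Units.ext
        apply frobenius_inj F 2
        simp only [frobenius_def, pow_two]
        rw [hrt, Units.val_mk0, hκ]
      dd_conj := fun κ A B => by
        rw [hpt, hpt]
        show ((cj (rt κ) (S (A₀ * A) * zQ (N A₀ * B)) : Q) : G) = _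
        congr 1
        rw [← hact, map_mul, hST, hTz, mul_left_comm, mul_left_comm (φ (κ : F) * κ)]
      norm_inj := hinj
      σ_ne := inv_ne_zero hNA
      base := by
        have h1 : pt 1 (B₀ / N A₀) = r := by
          rw [hpt, mul_one, mul_div_cancel₀ _ hNA, hA₀, hB₀]
        rw [h1, hpt0]
        exact her }, ?_, ?_⟩
  · intro hφ
    obtain ⟨p, q, hpq⟩ := D.nonabelian
    apply hpq
    obtain ⟨B, hB⟩ := hsplit p
    obtain ⟨B', hB'⟩ := hsplit q
    have hφ' : ∀ x, φ x = x := fun x => by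
      rw [show φ = RingEquiv.refl F from hφ]; rfl
    rw [← hB, ← hB', hmove, hmove, hSS, hSS, hφ', hφ', add_comm (X q), mul_comm (X q) (X p), add_comm B' B]
  · refine SuzukiTwo.odd_orderOf_of_fixed φ fun x hx => ?_
    by_contra hne
    have hx0 : x ≠ 0 := by rintro rfl; exact hne (map_zero φ)
    have hv0 : φ x ≠ 0 := (map_ne_zero_iff φ φ.injective).2 hx0
    have e : φ (x / φ x) * (x / φ x) = φ 1 * 1 := by
      rw [map_div₀, hx, map_one]
      field_simp
    exact hne (eq_of_div_eq_one (hinj e)).symm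

end Cfsg.Agent.SuzukiRankOne.Suzuki
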